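import Mathlib
import Cfsg.Prelude.Def_KGroupFacts

set_option autoImplicit false

namespace Cfsg.Agent.Lib.Helper35

universe u v w

open scoped commutatorElement

/-! ### General group lemmas -/

section General

variable {G : Type*} [Group G]

theorem comm_mul_central_left {z : G} (hz : z ∈ Subgroup.center G) (a b : G) :
    ⁅a * z, b⁆ = ⁅a, b⁆ := by
  have h := Subgroup.mem_center_iff.mp hz
  simp only [commutatorElement_def, mul_inv_rev]
  have e1 : a * z * b = a * b * z := by rw [mul_assoc, ← h b, ← mul_assoc]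
  rw [e1]
  group

theorem comm_mul_central_right {z : G} (hz : z ∈ Subgroup.center G) (a b : G) :
    ⁅a, b * z⁆ = ⁅a, b⁆ := by
  have h := Subgroup.mem_center_iff.mp hz
  simp only [commutatorElement_def, mul_inv_rev]
  have e1 : a * (b * z) * a⁻¹ = a * b * a⁻¹ * z := by
    calc a * (b * z) * a⁻¹ = a * b * (z * a⁻¹) := by group
      _ = a * b * (a⁻¹ * z) := by rw [h a⁻¹]
      _ = a * b * a⁻¹ * z := by group
  rw [e1]
  group

/-- Schur: if the centre has finite index then there are finitely many commutators. -/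
theorem finite_commutatorSet_of_finite_quot_center [Finite (G ⧸ Subgroup.center G)] :
    Finite (commutatorSet G) := by
  let c : (G ⧸ Subgroup.center G) × (G ⧸ Subgroup.center G) → G :=
    fun p => ⁅p.1.out, p.2.out⁆
  have hsub : commutatorSet G ⊆ Set.range c := by
    rintro g ⟨g₁, g₂, rfl⟩
    refine ⟨(QuotientGroup.mk g₁, QuotientGroup.mk g₂), ?_⟩
    obtain ⟨z₁, h₁⟩ := QuotientGroup.mk_out_eq_mul (Subgroup.center G) g₁
    obtain ⟨z₂, h₂⟩ := QuotientGroup.mk_out_eq_mul (Subgroup.center G) g₂
    simp only [c]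
    rw [h₁, h₂, comm_mul_central_left z₁.2, comm_mul_central_right z₂.2]
  exact (Set.finite_range c).subset hsub |>.to_subtype

theorem finite_commutator_of_central_ker {H : Type*} [Group H] [Finite H] (φ : G →* H)
    (hc : φ.ker ≤ Subgroup.center G) : Finite (commutator G) := by
  have h1 : Finite (G ⧸ φ.ker) := by
    have e := QuotientGroup.quotientKerEquivRange φ
    exact Finite.of_equiv _ e.symm.toEquiv
  have h2 : Finite (G ⧸ Subgroup.center G) := by
    have : (φ.ker).FiniteIndex := Subgroup.finiteIndex_of_finite_quotient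
    have : (Subgroup.center G).FiniteIndex := Subgroup.finiteIndex_of_le hc
    exact Subgroup.finite_quotient_of_finiteIndex
  have := finite_commutatorSet_of_finite_quot_center (G := G)
  infer_instance

end General

/-! ### The free central extension `F/[R,F]` of a group `Q` generated by a family `f` -/

section FreeCentral

variable {Q : Type u} [Group Q] {ι : Type v} (f : ι → Q)

/-- the presentation map from the free group -/
def piF : FreeGroup ι →* Q := FreeGroup.lift f

/-- `[R, F]` where `R` is the kernel of the presentation map -/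
def relN : Subgroup (FreeGroup ι) := ⁅(piF f).ker, (⊤ : Subgroup (FreeGroup ι))⁆

instance relN_normal : (relN f).Normal := by unfold relN; infer_instance

theorem relN_le_ker : relN f ≤ (piF f).ker := Subgroup.commutator_le_left _ _

/-- `F/[R,F]` -/
abbrev CE : Type v := FreeGroup ι ⧸ relN f

/-- the projection of the free central extension onto `Q` -/
def piE : CE f →* Q := QuotientGroup.lift (relN f) (piF f) (relN_le_ker f)

theorem piE_mk (x : FreeGroup ι) : piE f (QuotientGroup.mk x) = piF f x := rfl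

theorem piE_surjective (hf : Function.Surjective (piF f)) : Function.Surjective (piE f) := by
  intro q
  obtain ⟨x, rfl⟩ := hf q
  exact ⟨QuotientGroup.mk x, rfl⟩

theorem ker_piE_le_center : (piE f).ker ≤ Subgroup.center (CE f) := by
  intro x hx
  obtain ⟨a, rfl⟩ := QuotientGroup.mk_surjective x
  rw [Subgroup.mem_center_iff]
  intro y
  obtain ⟨b, rfl⟩ := QuotientGroup.mk_surjective y
  have ha : a ∈ (piF f).ker := hx
  have hc : ⁅a⁻¹, b⁻¹⁆ ∈ relN f :=
    Subgroup.commutator_mem_commutator (inv_mem ha) (Subgroup.mem_top _)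
  rw [← QuotientGroup.mk_mul, ← QuotientGroup.mk_mul, QuotientGroup.eq]
  have : (b * a)⁻¹ * (a * b) = ⁅a⁻¹, b⁻¹⁆ := by
    simp only [commutatorElement_def]; group
  rw [this]; exact hc

/-- weak universality among central extensions of `Q` -/
theorem exists_lift {X : Type w} [Group X] (ξ : X →* Q) (hξ : Function.Surjective ξ)
    (hc : ξ.ker ≤ Subgroup.center X) : ∃ θ : CE f →* X, ξ.comp θ = piE f := by
  choose s hs using hξ
  let ψ : FreeGroup ι →* X := FreeGroup.lift (fun i => s (f i))
  have hψ : ξ.comp ψ = piF f := by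
    ext i; simp [ψ, piF, hs]
  have hN : relN f ≤ ψ.ker := by
    rw [relN, Subgroup.commutator_le]
    intro a ha b _
    rw [MonoidHom.mem_ker, map_commutatorElement]
    have hz : ψ a ∈ Subgroup.center X := by
      apply hc
      rw [MonoidHom.mem_ker, ← MonoidHom.comp_apply, hψ]; exact ha
    rw [commutatorElement_eq_one_iff_mul_comm]
    exact (Subgroup.mem_center_iff.mp hz (ψ b)).symm
  refine ⟨QuotientGroup.lift (relN f) ψ hN, ?_⟩
  apply QuotientGroup.monoidHom_ext
  ext i
  simp [piE, ψ, piF, hs]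

/-- the candidate multiplier `(R ∩ F')/[R,F]`, as a subgroup of the free central extension -/
def M : Subgroup (CE f) := (piE f).ker ⊓ commutator (CE f)

theorem M_le_ker : M f ≤ (piE f).ker := inf_le_left

theorem M_le_commutator : M f ≤ commutator (CE f) := inf_le_right

instance finite_commutator_CE [Finite Q] : Finite (commutator (CE f)) :=
  finite_commutator_of_central_ker (piE f) (ker_piE_le_center f)

instance finite_M [Finite Q] : Finite (M f) :=
  Finite.of_injective (fun x : M f => (⟨x.1, M_le_commutator f x.2⟩ : commutator (CE f)))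
    (fun x y h => Subtype.ext (by
      have := congrArg (fun z : commutator (CE f) => (z : CE f)) h
      exact this))

variable {f}

theorem range_sup_ker_eq_top (hf : Function.Surjective (piF f)) {X : Type w} [Group X]
    (ξ : X →* Q) (θ : CE f →* X) (hθ : ξ.comp θ = piE f) : ∀ x : X, ∃ e : CE f, ∃ z ∈ ξ.ker,
      x = θ e * z := by
  intro x
  obtain ⟨e, he⟩ := piE_surjective f hf (ξ x)
  refine ⟨e, (θ e)⁻¹ * x, ?_, by group⟩
  rw [MonoidHom.mem_ker, map_mul, map_inv, ← MonoidHom.comp_apply, hθ, he]; group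

theorem commutator_le_map (hf : Function.Surjective (piF f)) {X : Type w} [Group X]
    (ξ : X →* Q) (hc : ξ.ker ≤ Subgroup.center X) (θ : CE f →* X) (hθ : ξ.comp θ = piE f) :
    commutator X ≤ (commutator (CE f)).map θ := by
  rw [commutator_def, Subgroup.commutator_le]
  intro x _ y _
  obtain ⟨a, z, hz, rfl⟩ := range_sup_ker_eq_top hf ξ θ hθ x
  obtain ⟨b, z', hz', rfl⟩ := range_sup_ker_eq_top hf ξ θ hθ y
  rw [comm_mul_central_left (hc hz), comm_mul_central_right (hc hz'), ← map_commutatorElement]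
  exact Subgroup.mem_map_of_mem θ (Subgroup.commutator_mem_commutator (Subgroup.mem_top a)
    (Subgroup.mem_top b))

/-- the image of `M` in any central extension is the part of the kernel inside the commutator
subgroup -/
theorem map_M_eq (hf : Function.Surjective (piF f)) {X : Type w} [Group X]
    (ξ : X →* Q) (hc : ξ.ker ≤ Subgroup.center X) (θ : CE f →* X) (hθ : ξ.comp θ = piE f) :
    (M f).map θ = ξ.ker ⊓ commutator X := by
  apply le_antisymm
  · rintro _ ⟨m, hm, rfl⟩
    have hm' : m ∈ (piE f).ker ∧ m ∈ commutator (CE f) := Subgroup.mem_inf.mp hm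
    refine Subgroup.mem_inf.mpr ⟨?_, ?_⟩
    · rw [MonoidHom.mem_ker, ← MonoidHom.comp_apply, hθ]; exact hm'.1
    · have : (commutator (CE f)).map θ ≤ commutator X := by
        rw [commutator_def, commutator_def, Subgroup.map_commutator]
        exact Subgroup.commutator_mono le_top le_top
      exact this (Subgroup.mem_map_of_mem θ hm'.2)
  · intro x hx
    have hx' : x ∈ ξ.ker ∧ x ∈ commutator X := Subgroup.mem_inf.mp hx
    obtain ⟨e, he, rfl⟩ := commutator_le_map hf ξ hc θ hθ hx'.2
    refine ⟨e, Subgroup.mem_inf.mpr ⟨?_, he⟩, rfl⟩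
    rw [MonoidHom.mem_ker, ← hθ]; exact hx'.1

end FreeCentral

section Complement

open scoped IsMulCommutative

variable {Q : Type u} [Group Q] {ι : Type v} (f : ι → Q)

/-- the map to the abelianization of the free group -/
def epsE : CE f →* Abelianization (FreeGroup ι) :=
  QuotientGroup.lift (relN f) Abelianization.of (by
    intro x hx
    rw [Abelianization.ker_of]
    exact (Subgroup.commutator_mono le_top le_rfl : relN f ≤ ⁅⊤, ⊤⁆) hx)

theorem ker_epsE : (epsE f).ker = commutator (CE f) := by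
  apply le_antisymm
  · intro x hx
    obtain ⟨a, rfl⟩ := QuotientGroup.mk_surjective x
    have ha : a ∈ commutator (FreeGroup ι) := by
      rw [← Abelianization.ker_of]; exact hx
    have : (commutator (FreeGroup ι)).map (QuotientGroup.mk' (relN f)) ≤ commutator (CE f) := by
      rw [commutator_def, commutator_def, Subgroup.map_commutator]
      exact Subgroup.commutator_mono le_top le_top
    exact this (Subgroup.mem_map_of_mem _ ha)
  · exact Abelianization.commutator_subset_ker (epsE f)

theorem exists_complement [Finite ι] (K : Subgroup (CE f)) (hK : K ≤ (piE f).ker) :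
    ∃ S : Subgroup (CE f), S ≤ K ∧ S ⊓ commutator (CE f) = ⊥ ∧
      ∀ k ∈ K, ∃ s ∈ S, ∃ m ∈ commutator (CE f), k = s * m := by
  classical
  let C := Subgroup.center (CE f)
  have hKC : K ≤ C := hK.trans (ker_piE_le_center f)
  let KA : Submodule ℤ (Additive C) :=
    AddSubgroup.toIntSubmodule (Subgroup.toAddSubgroup (K.subgroupOf C))
  have hKA : ∀ a : Additive C, a ∈ KA ↔ ((Additive.toMul a : C) : CE f) ∈ K := by
    intro a
    rfl
  let εA : Additive C →+ FreeAbelianGroup ι := ((epsE f).comp C.subtype).toAdditive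
  let L₀ : KA →ₗ[ℤ] FreeAbelianGroup ι := εA.toIntLinearMap.comp KA.subtype
  let P : Submodule ℤ (FreeAbelianGroup ι) := LinearMap.range L₀
  obtain ⟨n, ⟨b⟩⟩ := Submodule.nonempty_basis_of_pid (FreeAbelianGroup.basis ι) P
  have : Module.Free ℤ P := Module.Free.of_basis b
  obtain ⟨s, hs⟩ := Module.projective_lifting_property L₀.rangeRestrict LinearMap.id
    (LinearMap.surjective_rangeRestrict L₀)
  let toE : KA → CE f := fun x => ((Additive.toMul (x : Additive C) : C) : CE f)
  have toE_add : ∀ x y, toE (x + y) = toE x * toE y := fun x y => rfl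
  have toE_zero : toE 0 = 1 := rfl
  have toE_neg : ∀ x, toE (-x) = (toE x)⁻¹ := fun x => rfl
  have toE_mem : ∀ x, toE x ∈ K := fun x => (hKA _).mp x.2
  have hL : ∀ x : KA, L₀ x = Additive.ofMul (epsE f (toE x)) := fun x => rfl
  have hsp : ∀ p : P, L₀ (s p) = (p : FreeAbelianGroup ι) := by
    intro p
    have := congrArg (fun g : P →ₗ[ℤ] P => ((g p : P) : FreeAbelianGroup ι)) hs
    exact this
  obtain ⟨S, hS⟩ : ∃ S : Subgroup (CE f), ∀ e, e ∈ S ↔ ∃ p : P, toE (s p) = e := by
    refine ⟨{ carrier := {e | ∃ p : P, toE (s p) = e}, mul_mem' := ?_, one_mem' := ?_,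
              inv_mem' := ?_ }, fun e => Iff.rfl⟩
    · rintro _ _ ⟨p, rfl⟩ ⟨p', rfl⟩
      exact ⟨p + p', by rw [map_add, toE_add]⟩
    · exact ⟨0, by rw [map_zero, toE_zero]⟩
    · rintro _ ⟨p, rfl⟩
      exact ⟨-p, by rw [map_neg, toE_neg]⟩
  refine ⟨S, ?_, ?_, ?_⟩
  · intro e he
    obtain ⟨p, rfl⟩ := (hS e).mp he
    exact toE_mem _
  · rw [eq_bot_iff]
    intro e he
    obtain ⟨he1, he2⟩ := Subgroup.mem_inf.mp he
    obtain ⟨p, rfl⟩ := (hS e).mp he1
    rw [← ker_epsE, MonoidHom.mem_ker] at he2
    have h0 : (p : FreeAbelianGroup ι) = 0 := by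
      rw [← hsp p, hL, he2]; rfl
    have hp : p = 0 := Subtype.ext h0
    rw [Subgroup.mem_bot, hp, map_zero, toE_zero]
  · intro k hk
    let k' : KA := ⟨Additive.ofMul (⟨k, hKC hk⟩ : C), (hKA _).mpr hk⟩
    have hk' : toE k' = k := rfl
    refine ⟨toE (s (L₀.rangeRestrict k')), (hS _).mpr ⟨_, rfl⟩,
      (toE (s (L₀.rangeRestrict k')))⁻¹ * k, ?_, by group⟩
    rw [← ker_epsE, MonoidHom.mem_ker, map_mul, map_inv]
    have h1 : L₀ (s (L₀.rangeRestrict k')) = L₀ k' := hsp _
    rw [hL, hL, hk'] at h1
    have h2 : epsE f (toE (s (L₀.rangeRestrict k'))) = epsE f k := h1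
    rw [h2]; group

end Complement

section Cover

variable {Q : Type u} [Group Q] {ι : Type v} {f : ι → Q}

theorem normal_of_le_ker {S : Subgroup (CE f)} (hS : S ≤ (piE f).ker) : S.Normal := by
  constructor
  intro n hn g
  have := Subgroup.mem_center_iff.mp (ker_piE_le_center f (hS hn)) g
  rw [this, mul_inv_cancel_right]; exact hn

/-- every central extension receives `M` onto the part of its kernel inside the commutator
subgroup -/
theorem exists_surj_M (hf : Function.Surjective (piF f)) {X : Type w} [Group X] (ξ : X →* Q)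
    (hξ : Function.Surjective ξ) (hc : ξ.ker ≤ Subgroup.center X) :
    ∃ p : M f →* ↥(ξ.ker ⊓ commutator X), Function.Surjective p := by
  obtain ⟨θ, hθ⟩ := exists_lift f ξ hξ hc
  have hmap := map_M_eq hf ξ hc θ hθ
  refine ⟨(θ.comp (M f).subtype).codRestrict (ξ.ker ⊓ commutator X) (fun m => ?_), ?_⟩
  · rw [← hmap]; exact Subgroup.mem_map_of_mem θ m.2
  · rintro ⟨x, hx⟩
    rw [← hmap] at hx
    obtain ⟨m, hm, rfl⟩ := hx
    exact ⟨⟨m, hm⟩, rfl⟩

/-- the quotient of the free central extension by a complement of `M` is a Schur cover -/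
theorem cover_of_complement [Finite Q] (hf : Function.Surjective (piF f)) (S : Subgroup (CE f))
    (hS : S ≤ (piE f).ker) (hSM : S ⊓ commutator (CE f) = ⊥)
    (hdec : ∀ z ∈ (piE f).ker, ∃ s ∈ S, ∃ m ∈ commutator (CE f), z = s * m) :
    ∃ (Γ : Type v) (_ : Group Γ) (_ : Finite Γ) (σ : Γ →* Q) (ρ : CE f →* Γ),
      IsStemExtension σ ∧ Function.Surjective ρ ∧ ρ.ker = S ∧ σ.comp ρ = piE f ∧
        Nonempty (σ.ker ≃* M f) := by
  have : S.Normal := normal_of_le_ker hS
  let ρ : CE f →* CE f ⧸ S := QuotientGroup.mk' S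
  let σ : CE f ⧸ S →* Q := QuotientGroup.lift S (piE f) hS
  have hρ : Function.Surjective ρ := QuotientGroup.mk'_surjective S
  have hσρ : ∀ e, σ (ρ e) = piE f e := fun e => rfl
  have hkerρ : ρ.ker = S := QuotientGroup.ker_mk' S
  have hσ : Function.Surjective σ := by
    intro q
    obtain ⟨e, he⟩ := piE_surjective f hf q
    exact ⟨ρ e, he⟩
  have hcomm : (commutator (CE f)).map ρ ≤ commutator (CE f ⧸ S) := by
    rw [commutator_def, commutator_def, Subgroup.map_commutator]
    exact Subgroup.commutator_mono le_top le_top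
  have hcen : σ.ker ≤ Subgroup.center (CE f ⧸ S) := by
    intro x hx
    obtain ⟨e, rfl⟩ := hρ x
    have he : e ∈ Subgroup.center (CE f) := ker_piE_le_center f hx
    rw [Subgroup.mem_center_iff]
    intro y
    obtain ⟨b, rfl⟩ := hρ y
    rw [← map_mul, ← map_mul, Subgroup.mem_center_iff.mp he b]
  have hstem : σ.ker ≤ commutator (CE f ⧸ S) := by
    intro x hx
    obtain ⟨e, rfl⟩ := hρ x
    obtain ⟨s, hs, m, hm, rfl⟩ := hdec e hx
    have hs1 : ρ s = 1 := by rw [← MonoidHom.mem_ker, hkerρ]; exact hs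
    rw [map_mul, hs1, one_mul]
    exact hcomm (Subgroup.mem_map_of_mem ρ hm)
  let φ : M f →* σ.ker := (ρ.comp (M f).subtype).codRestrict σ.ker (fun m => by
    rw [MonoidHom.mem_ker]; exact (M_le_ker f m.2))
  have hφinj : Function.Injective φ := by
    rw [injective_iff_map_eq_one]
    intro m hm
    have h1 : ρ (m : CE f) = 1 := congrArg Subtype.val hm
    have h2 : (m : CE f) ∈ S := by rw [← hkerρ, MonoidHom.mem_ker]; exact h1
    have h3 : (m : CE f) ∈ S ⊓ commutator (CE f) := Subgroup.mem_inf.mpr ⟨h2, M_le_commutator f m.2⟩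
    rw [hSM, Subgroup.mem_bot] at h3
    exact Subtype.ext h3
  have hφsurj : Function.Surjective φ := by
    rintro ⟨x, hx⟩
    obtain ⟨e, rfl⟩ := hρ x
    obtain ⟨s, hs, m, hm, rfl⟩ := hdec e hx
    have hs1 : ρ s = 1 := by rw [← MonoidHom.mem_ker, hkerρ]; exact hs
    have hmker : m ∈ (piE f).ker := by
      have : m = s⁻¹ * (s * m) := by group
      rw [this]
      exact mul_mem (inv_mem (hS hs)) hx
    refine ⟨⟨m, Subgroup.mem_inf.mpr ⟨hmker, hm⟩⟩, Subtype.ext ?_⟩
    show ρ m = ρ (s * m)
    rw [map_mul, hs1, one_mul]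
  let e : M f ≃* σ.ker := MulEquiv.ofBijective φ ⟨hφinj, hφsurj⟩
  have : Finite σ.ker := Finite.of_equiv _ e.toEquiv
  have : Finite ((CE f ⧸ S) ⧸ σ.ker) :=
    Finite.of_equiv _ (QuotientGroup.quotientKerEquivOfSurjective σ hσ).symm.toEquiv
  have hfin : Finite (CE f ⧸ S) := Finite.of_subgroup_quotient σ.ker
  exact ⟨CE f ⧸ S, inferInstance, hfin, σ, ρ, ⟨hσ, hcen, hstem⟩, hρ, hkerρ,
    MonoidHom.ext fun x => rfl, ⟨e.symm⟩⟩

end Cover

section Main

variable {Q : Type u} [Group Q]

instance M_commGroup {ι : Type v} (f : ι → Q) : CommGroup (M f) :=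
  { (inferInstance : Group (M f)) with
    mul_comm := fun a b => Subtype.ext
      (Subgroup.mem_center_iff.mp (ker_piE_le_center f (M_le_ker f b.2)) a.1) }

theorem piF_id_surjective : Function.Surjective (piF (id : Q → Q)) :=
  fun q => ⟨FreeGroup.of q, by simp [piF]⟩

/-- Existence of the Schur multiplier of a finite group. -/
theorem hasSchurMultiplier_M [Finite Q] : HasSchurMultiplier Q (M (id : Q → Q)) := by
  have hf := piF_id_surjective (Q := Q)
  constructor
  · obtain ⟨S, hSK, hSM, hdec⟩ := exists_complement (id : Q → Q) (piE id).ker le_rfl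
    obtain ⟨Γ, hG, hF, σ, ρ, hstem, -, -, -, he⟩ :=
      cover_of_complement hf S hSK hSM hdec
    exact ⟨Γ, hG, hF, σ, hstem, he⟩
  · intro Γ _ _ σ hσ
    obtain ⟨p, hp⟩ := exists_surj_M hf σ hσ.1 hσ.2.1
    have hle : σ.ker ⊓ commutator Γ = σ.ker := inf_eq_left.mpr hσ.2.2
    refine ⟨(Subgroup.inclusion (inf_le_left : σ.ker ⊓ commutator Γ ≤ σ.ker)).comp p, ?_⟩
    rintro ⟨x, hx⟩
    have hx' : x ∈ σ.ker ⊓ commutator Γ := by rw [hle]; exact hx
    obtain ⟨m, hm⟩ := hp ⟨x, hx'⟩
    refine ⟨m, Subtype.ext ?_⟩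
    have := congrArg Subtype.val hm
    exact this

theorem finite_of_hasSchurMultiplier {A : Type v} [CommGroup A] (hA : HasSchurMultiplier Q A) :
    Finite A := by
  obtain ⟨⟨Γ, _, _, σ, -, ⟨e⟩⟩, -⟩ := hA
  exact Finite.of_equiv _ e.toEquiv

/-- Uniqueness of the Schur multiplier. -/
theorem mulEquiv_of_hasSchurMultiplier {A : Type v} {B : Type w} [CommGroup A] [CommGroup B]
    (hA : HasSchurMultiplier Q A) (hB : HasSchurMultiplier Q B) : Nonempty (A ≃* B) := by
  have hfA := finite_of_hasSchurMultiplier hA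
  have hfB := finite_of_hasSchurMultiplier hB
  obtain ⟨ΓA, _, _, σA, hσA, ⟨eA⟩⟩ := hA.1
  obtain ⟨ΓB, _, _, σB, hσB, ⟨eB⟩⟩ := hB.1
  obtain ⟨pB, hpB⟩ := hB.2 ΓA σA hσA
  obtain ⟨pA, hpA⟩ := hA.2 ΓB σB hσB
  have h1 : Function.Surjective (eA.toMonoidHom.comp pB) := eA.surjective.comp hpB
  have h2 : Function.Surjective (eB.toMonoidHom.comp pA) := eB.surjective.comp hpA
  have c1 : Nat.card A ≤ Nat.card B := Nat.card_le_card_of_surjective _ h1
  have hbij : Function.Bijective (eB.toMonoidHom.comp pA) :=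
    Function.Surjective.bijective_of_nat_card_le h2 c1
  exact ⟨MulEquiv.ofBijective _ hbij⟩

/-- For a finite group with Schur multiplier `A`, every central extension has the part of its
kernel inside the commutator subgroup as a homomorphic image of `A`. -/
theorem exists_surj_of_central [Finite Q] {A : Type v} [CommGroup A]
    (hA : HasSchurMultiplier Q A) {X : Type w} [Group X] (ξ : X →* Q)
    (hξ : Function.Surjective ξ) (hc : ξ.ker ≤ Subgroup.center X) :
    ∃ p : A →* ↥(ξ.ker ⊓ commutator X), Function.Surjective p := by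
  obtain ⟨e⟩ := mulEquiv_of_hasSchurMultiplier hA (hasSchurMultiplier_M (Q := Q))
  obtain ⟨p, hp⟩ := exists_surj_M (piF_id_surjective (Q := Q)) ξ hξ hc
  exact ⟨p.comp e.toMonoidHom, hp.comp e.surjective⟩

end Main

section Extra

/-- homs from a perfect group into a central extension are determined by their composite -/
theorem eq_of_comp_eq_of_perfect {G : Type*} [Group G] [Group.IsPerfect G] {X Q : Type*}
    [Group X] [Group Q] (ξ : X →* Q) (hc : ξ.ker ≤ Subgroup.center X) (η₁ η₂ : G →* X)
    (h : ξ.comp η₁ = ξ.comp η₂) : η₁ = η₂ := by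
  have key : ∀ g, ∃ z ∈ Subgroup.center X, η₁ g = η₂ g * z := by
    intro g
    refine ⟨(η₂ g)⁻¹ * η₁ g, hc ?_, by group⟩
    rw [MonoidHom.mem_ker, map_mul, map_inv, ← MonoidHom.comp_apply, ← MonoidHom.comp_apply, h]
    group
  have hle : commutator G ≤ MonoidHom.eqLocus η₁ η₂ := by
    rw [commutator_def, Subgroup.commutator_le]
    intro a _ b _
    obtain ⟨z, hz, ha⟩ := key a
    obtain ⟨z', hz', hb⟩ := key b
    show η₁ ⁅a, b⁆ = η₂ ⁅a, b⁆
    rw [map_commutatorElement, map_commutatorElement, ha, hb, comm_mul_central_left hz,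
      comm_mul_central_right hz']
  ext g
  have : g ∈ commutator G := by rw [Group.IsPerfect.commutator_eq_top]; trivial
  exact hle this

/-- a surjective hom maps the commutator subgroup onto the commutator subgroup -/
theorem map_commutator_of_surjective {G H : Type*} [Group G] [Group H] (φ : G →* H)
    (hφ : Function.Surjective φ) : (commutator G).map φ = commutator H := by
  rw [commutator_def, commutator_def, Subgroup.map_commutator,
    Subgroup.map_top_of_surjective φ hφ]

/-- transport of a finite group to another universe -/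
theorem exists_mulEquiv_univ (Y : Type w) [Group Y] [Finite Y] :
    ∃ (Y' : Type v) (_ : Group Y') (_ : Finite Y'), Nonempty (Y' ≃* Y) := by
  let e₀ : Y ≃ Fin (Nat.card Y) := Finite.equivFin Y
  let e : ULift.{v} (Fin (Nat.card Y)) ≃ Y := Equiv.ulift.trans e₀.symm
  exact ⟨ULift.{v} (Fin (Nat.card Y)), e.group, inferInstance, ⟨by
    letI := e.group
    exact e.mulEquiv⟩⟩

/-- a finite stem extension of a group with trivial multiplier is injective -/
theorem ker_eq_bot_of_trivial_multiplier {Γ : Type v} [Group Γ]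
    (hΓ : HasCyclicSchurMultiplier Γ 1) {Y : Type w} [Group Y] [Finite Y] (τ : Y →* Γ)
    (hτ : IsStemExtension τ) : τ.ker = ⊥ := by
  obtain ⟨Y', hG, hF, ⟨e⟩⟩ := exists_mulEquiv_univ.{v, w} Y
  let τ' : Y' →* Γ := τ.comp e.toMonoidHom
  have hτ' : IsStemExtension τ' := by
    refine ⟨hτ.1.comp e.surjective, ?_, ?_⟩
    · intro x hx
      have h1 : e x ∈ Subgroup.center Y := hτ.2.1 hx
      rw [Subgroup.mem_center_iff] at h1 ⊢
      intro y
      apply e.injective
      rw [map_mul, map_mul, h1 (e y)]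
    · intro x hx
      have h1 : e x ∈ commutator Y := hτ.2.2 hx
      rw [← map_commutator_of_surjective e.toMonoidHom e.surjective] at h1
      obtain ⟨x', hx', hxx⟩ := h1
      have : x' = x := e.injective hxx
      rw [← this]; exact hx'
  obtain ⟨p, hp⟩ := hΓ.2 Y' τ' hτ'
  rw [eq_bot_iff]
  intro y hy
  have hy' : e.symm y ∈ τ'.ker := by
    rw [MonoidHom.mem_ker]
    show τ (e (e.symm y)) = 1
    rw [e.apply_symm_apply]; exact hy
  obtain ⟨a, ha⟩ := hp ⟨e.symm y, hy'⟩
  have ha1 : a = 1 := Subsingleton.elim _ _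
  rw [ha1, map_one] at ha
  have h2 : e.symm y = 1 := (congrArg Subtype.val ha).symm
  rw [Subgroup.mem_bot]
  have := congrArg e h2
  rwa [e.apply_symm_apply, map_one] at this

/-- the trivial group is the multiplier as soon as all finite stem extensions are injective -/
theorem hasCyclicSchurMultiplier_one_of {Γ : Type v} [Group Γ] [Finite Γ]
    (h : ∀ (Y : Type v) [Group Y] [Finite Y] (τ : Y →* Γ), IsStemExtension τ → τ.ker = ⊥) :
    HasCyclicSchurMultiplier Γ 1 := by
  constructor
  · refine ⟨Γ, inferInstance, inferInstance, MonoidHom.id Γ, ⟨Function.surjective_id, ?_, ?_⟩, ?_⟩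
    · rw [MonoidHom.ker_id]; exact bot_le
    · rw [MonoidHom.ker_id]; exact bot_le
    · have : Subsingleton (MonoidHom.id Γ).ker := by
        rw [MonoidHom.ker_id]; infer_instance
      have hu : Unique (MonoidHom.id Γ).ker := ⟨⟨1⟩, fun a => Subsingleton.elim _ _⟩
      exact ⟨MulEquiv.ofUnique⟩
  · intro Y _ _ τ hτ
    have hk := h Y τ hτ
    refine ⟨1, ?_⟩
    rintro ⟨x, hx⟩
    rw [hk, Subgroup.mem_bot] at hx
    exact ⟨1, Subtype.ext hx.symm⟩

variable {Q : Type u} [Group Q] {ι : Type v} {f : ι → Q}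

/-- a lift of the free central extension to a stem extension is surjective -/
theorem surjective_of_stem (hf : Function.Surjective (piF f)) {X : Type w} [Group X]
    (ξ : X →* Q) (hξ : IsStemExtension ξ) (θ : CE f →* X) (hθ : ξ.comp θ = piE f) :
    Function.Surjective θ := by
  intro x
  obtain ⟨e, z, hz, rfl⟩ := range_sup_ker_eq_top hf ξ θ hθ x
  obtain ⟨e', -, rfl⟩ := commutator_le_map hf ξ hξ.2.1 θ hθ (hξ.2.2 hz)
  exact ⟨e * e', map_mul θ e e'⟩

/-- for perfect `Q` the free central extension is generated by its commutator subgroup and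
the kernel -/
theorem exists_commutator_mul_ker (hf : Function.Surjective (piF f)) [Group.IsPerfect Q]
    (x : CE f) : ∃ a ∈ commutator (CE f), ∃ z ∈ (piE f).ker, x = a * z := by
  have h1 : piE f x ∈ (commutator (CE f)).map (piE f) := by
    rw [map_commutator_of_surjective (piE f) (piE_surjective f hf),
      Group.IsPerfect.commutator_eq_top]
    trivial
  obtain ⟨a, ha, hax⟩ := h1
  refine ⟨a, ha, a⁻¹ * x, ?_, by group⟩
  rw [MonoidHom.mem_ker, map_mul, map_inv, hax]; group

end Extra

end Cfsg.Agent.Lib.Helper35
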