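import Mathlib
import Cfsg.Prelude.Def_KGroupFacts
import Cfsg.Agent.Lib.Helper35.Schur

set_option autoImplicit false

namespace Cfsg.Agent.Lib.Helper35

universe u v w

open scoped commutatorElement

section More

variable {Q : Type u} [Group Q] {ι : Type v} {f : ι → Q}

/-- for a stem extension, a lift of the free central extension restricts to a surjection of
`M` onto the kernel -/
theorem surj_restrict_M (hf : Function.Surjective (piF f)) {X : Type w} [Group X] (ξ : X →* Q)
    (hξ : IsStemExtension ξ) (θ : CE f →* X) (hθ : ξ.comp θ = piE f) :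
    ∃ p : M f →* ξ.ker, Function.Surjective p ∧ ∀ m : M f, (p m : X) = θ m := by
  have hmap := map_M_eq hf ξ hξ.2.1 θ hθ
  have hle : ξ.ker ⊓ commutator X = ξ.ker := inf_eq_left.mpr hξ.2.2
  rw [hle] at hmap
  refine ⟨(θ.comp (M f).subtype).codRestrict ξ.ker (fun m => ?_), ?_, fun m => rfl⟩
  · rw [← hmap]; exact Subgroup.mem_map_of_mem θ m.2
  · rintro ⟨x, hx⟩
    rw [← hmap] at hx
    obtain ⟨m, hm, rfl⟩ := hx
    exact ⟨⟨m, hm⟩, rfl⟩

/-- the kernel of a lift is contained in the kernel of the projection -/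
theorem ker_lift_le {X : Type w} [Group X] (ξ' : X →* Q)
    (θ : CE f →* X) (hθ : ξ'.comp θ = piE f) : θ.ker ≤ (piE f).ker := by
  intro e he
  rw [MonoidHom.mem_ker, ← hθ, MonoidHom.comp_apply, MonoidHom.mem_ker.mp he, map_one]

end More

end Cfsg.Agent.Lib.Helper35
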