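import Mathlib
import Cfsg.Prelude.Def_KGroupFacts
import Cfsg.Agent.Lib.Helper35.Schur
import Cfsg.Agent.Lib.Helper35.Schur2

set_option autoImplicit false

namespace Cfsg.Agent.Lib.Helper35

universe u v w

open scoped commutatorElement

section Res

open scoped IsMulCommutative in
/-- transfer: the `|Γ : H|`-th power of a central element of the commutator subgroup lies in the
commutator subgroup of `H` -/
theorem pow_index_mem_commutator_of_central {Γ : Type*} [Group Γ] (H : Subgroup Γ)
    [H.FiniteIndex] {a : Γ} (ha : a ∈ Subgroup.center Γ) (ha' : a ∈ commutator Γ) :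
    ∃ h : a ^ H.index ∈ H, (⟨a ^ H.index, h⟩ : H) ∈ commutator H := by
  have key : ∀ (k : ℕ) (g₀ : Γ), g₀⁻¹ * a ^ k * g₀ ∈ H → g₀⁻¹ * a ^ k * g₀ = a ^ k := by
    intro k g₀ _
    have hk : a ^ k ∈ Subgroup.center Γ := Subgroup.pow_mem _ ha k
    have := Subgroup.mem_center_iff.mp hk g₀
    rw [mul_assoc, ← this, inv_mul_cancel_left]
  have h1 := MonoidHom.transfer_eq_pow (Abelianization.of (G := H)) a key
  have h2 : MonoidHom.transfer (Abelianization.of (G := H)) a = 1 := by
    have := Abelianization.commutator_subset_ker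
      (MonoidHom.transfer (Abelianization.of (G := H))) ha'
    exact this
  rw [h2] at h1
  refine ⟨MonoidHom.transfer_eq_pow_aux a key, ?_⟩
  rw [← Abelianization.ker_of, MonoidHom.mem_ker]
  exact h1.symm

/-- a quotient of a finite abelian group embeds into it -/
theorem exists_injective_of_surjective {B K : Type*} [CommGroup B] [Finite B] [Group K]
    (p : B →* K) (hp : Function.Surjective p) : ∃ i : K →* B, Function.Injective i := by
  have hfin : Finite K := Finite.of_surjective p hp
  have hcomm : ∀ a b : K, a * b = b * a := by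
    intro a b
    obtain ⟨x, rfl⟩ := hp a
    obtain ⟨y, rfl⟩ := hp b
    rw [← map_mul, ← map_mul, mul_comm]
  let instK : CommGroup K := { (inferInstance : Group K) with mul_comm := hcomm }
  have hexpB : NeZero ((Monoid.exponent B : ℕ) : ℂ) :=
    ⟨Nat.cast_ne_zero.mpr Monoid.exponent_ne_zero_of_finite⟩
  have hexpK : NeZero ((Monoid.exponent K : ℕ) : ℂ) :=
    ⟨Nat.cast_ne_zero.mpr Monoid.exponent_ne_zero_of_finite⟩
  obtain ⟨e₁⟩ := CommGroup.monoidHom_mulEquiv_of_hasEnoughRootsOfUnity K ℂ
  obtain ⟨e₂⟩ := CommGroup.monoidHom_mulEquiv_of_hasEnoughRootsOfUnity B ℂ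
  let c : (K →* ℂˣ) →* (B →* ℂˣ) := MonoidHom.mk' (fun χ => χ.comp p) (by
    intro χ ψ
    ext b
    rfl)
  have hc : Function.Injective c := by
    intro χ ψ h
    ext k
    obtain ⟨b, rfl⟩ := hp k
    have := congrArg (fun φ : B →* ℂˣ => φ b) h
    exact congrArg Units.val this
  exact ⟨(e₂.toMonoidHom.comp c).comp e₁.symm.toMonoidHom,
    (e₂.injective.comp hc).comp e₁.symm.injective⟩

/-- **Restriction to a subgroup**: the `|G : U|`-th powers of the multiplier of `G` embed in
the multiplier of `U`. -/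
theorem exists_injective_pow_index {G : Type u} [Group G] [Finite G] (U : Subgroup G)
    {A : Type v} {B : Type w} [CommGroup A] [CommGroup B] (hA : HasSchurMultiplier G A)
    (hB : HasSchurMultiplier U B) :
    ∃ i : (powMonoidHom U.index : A →* A).range →* B, Function.Injective i := by
  have hBfin : Finite B := finite_of_hasSchurMultiplier hB
  obtain ⟨Γ, _, _, σ, hσ, ⟨e⟩⟩ := hA.1
  let H : Subgroup Γ := U.comap σ
  have hidx : H.index = U.index := Subgroup.index_comap_of_surjective U hσ.1
  let ξ : H →* U := σ.subgroupComap U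
  have hξ : Function.Surjective ξ := σ.subgroupComap_surjective_of_surjective U hσ.1
  have hξapp : ∀ h : H, ((ξ h : U) : G) = σ (h : Γ) := fun h => rfl
  have hc : ξ.ker ≤ Subgroup.center H := by
    intro h hh
    have h1 : σ (h : Γ) = 1 := by
      rw [← hξapp, MonoidHom.mem_ker.mp hh]; rfl
    have h2 : (h : Γ) ∈ Subgroup.center Γ := hσ.2.1 h1
    rw [Subgroup.mem_center_iff] at h2 ⊢
    intro g
    apply Subtype.ext
    exact h2 (g : Γ)
  obtain ⟨p, hp⟩ := exists_surj_of_central hB ξ hξ hc
  let K' : Subgroup Γ := (ξ.ker ⊓ commutator H).map H.subtype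
  let eK : ↥(ξ.ker ⊓ commutator H) ≃* K' :=
    (ξ.ker ⊓ commutator H).equivMapOfInjective H.subtype H.subtype_injective
  obtain ⟨i, hi⟩ := exists_injective_of_surjective (eK.toMonoidHom.comp p)
    (eK.surjective.comp hp)
  let j₀ : (powMonoidHom U.index : A →* A).range →* Γ :=
    (σ.ker.subtype.comp e.symm.toMonoidHom).comp (powMonoidHom U.index : A →* A).range.subtype
  have hj₀ : Function.Injective j₀ := by
    intro x y hxy
    have h1 : e.symm (x : A) = e.symm (y : A) := Subtype.ext hxy
    exact Subtype.ext (e.symm.injective h1)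
  have hmem : ∀ x, j₀ x ∈ K' := by
    rintro ⟨x, a, rfl⟩
    have h1 : j₀ ⟨powMonoidHom U.index a, a, rfl⟩ = ((e.symm a : σ.ker) : Γ) ^ U.index := by
      show ((e.symm (a ^ U.index) : σ.ker) : Γ) = _
      rw [map_pow]; rfl
    rw [h1, ← hidx]
    obtain ⟨h2, h3⟩ := pow_index_mem_commutator_of_central H (hσ.2.1 (e.symm a).2)
      (hσ.2.2 (e.symm a).2)
    refine ⟨⟨_, h2⟩, Subgroup.mem_inf.mpr ⟨?_, h3⟩, rfl⟩
    rw [MonoidHom.mem_ker]
    apply Subtype.ext
    rw [hξapp]
    show σ (((e.symm a : σ.ker) : Γ) ^ H.index) = 1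
    rw [map_pow, MonoidHom.mem_ker.mp (e.symm a).2, one_pow]
  refine ⟨i.comp (j₀.codRestrict K' hmem), hi.comp ?_⟩
  intro x y hxy
  have h1 : ((j₀.codRestrict K' hmem x : K') : Γ) = ((j₀.codRestrict K' hmem y : K') : Γ) := by
    rw [hxy]
  exact hj₀ h1

end Res

end Cfsg.Agent.Lib.Helper35
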