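import Mathlib
import Cfsg.Agent.Lib.Helper41.SL2TorusCyclic
import Cfsg.Agent.Lib.Helper35.Schur
import Cfsg.Agent.Lib.Helper35.SchurRes

set_option autoImplicit false

namespace Cfsg.Agent.Lib.Helper35

open scoped commutatorElement

section Dicyclic

/-- the commutator subgroup of a group with an abelian subgroup of index two consists of
commutators with an element outside -/
theorem exists_eq_comm_of_index_two {H : Type*} [Group H] (T : Subgroup H)
    (hT : ∀ a ∈ T, ∀ b ∈ T, a * b = b * a) (g : H)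
    (hg : ∀ a ∈ T, g * a * g⁻¹ ∈ T) (hH : ∀ h : H, h ∈ T ∨ g⁻¹ * h ∈ T) :
    ∀ w ∈ commutator H, ∃ a ∈ T, w = ⁅a, g⁆ := by
  have hκmul : ∀ a ∈ T, ∀ b ∈ T, ⁅a * b, g⁆ = ⁅a, g⁆ * ⁅b, g⁆ := by
    intro a ha b hb
    have h1 : ⁅a * b, g⁆ = a * b * (g * b⁻¹ * g⁻¹) * (g * a⁻¹ * g⁻¹) := by
      simp only [commutatorElement_def]; group
    have h2 : ⁅a, g⁆ * ⁅b, g⁆ = a * (g * a⁻¹ * g⁻¹) * b * (g * b⁻¹ * g⁻¹) := by
      simp only [commutatorElement_def]; group
    have ha' : g * a⁻¹ * g⁻¹ ∈ T := hg _ (T.inv_mem ha)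
    have hb' : g * b⁻¹ * g⁻¹ ∈ T := hg _ (T.inv_mem hb)
    rw [h1, h2, mul_assoc a b, mul_assoc a (b * _), mul_assoc a (g * a⁻¹ * g⁻¹), mul_assoc a,
      hT _ (T.mul_mem hb hb') _ ha', mul_assoc (g * a⁻¹ * g⁻¹)]
  let C : Subgroup H :=
    { carrier := {w | ∃ a ∈ T, w = ⁅a, g⁆}
      mul_mem' := by
        rintro _ _ ⟨a, ha, rfl⟩ ⟨b, hb, rfl⟩
        exact ⟨a * b, T.mul_mem ha hb, (hκmul a ha b hb).symm⟩
      one_mem' := ⟨1, T.one_mem, by simp⟩
      inv_mem' := by
        rintro _ ⟨a, ha, rfl⟩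
        refine ⟨a⁻¹, T.inv_mem ha, ?_⟩
        have h1 := hκmul a ha a⁻¹ (T.inv_mem ha)
        rw [mul_inv_cancel, commutatorElement_one_left] at h1
        exact inv_eq_of_mul_eq_one_right h1.symm }
  have hle : commutator H ≤ C := by
    rw [commutator_def, Subgroup.commutator_le]
    intro h₁ _ h₂ _
    rcases hH h₁ with h1 | h1 <;> rcases hH h₂ with h2 | h2
    · refine ⟨1, T.one_mem, ?_⟩
      rw [commutatorElement_one_left, commutatorElement_eq_one_iff_mul_comm]
      exact hT _ h1 _ h2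
    · -- h₂ = g * b
      refine ⟨h₁, h1, ?_⟩
      have e : h₂ = g * (g⁻¹ * h₂) := by group
      have hc := hT _ h1 _ h2
      have h3 : ⁅h₁, g * (g⁻¹ * h₂)⁆ = ⁅h₁, g⁆ * (g * ⁅h₁, g⁻¹ * h₂⁆ * g⁻¹) := by
        simp only [commutatorElement_def]; group
      rw [e, h3, commutatorElement_eq_one_iff_mul_comm.mpr hc]
      group
    · -- h₁ = g * a
      refine ⟨h₂⁻¹, T.inv_mem h2, ?_⟩
      have e : h₁ = g * (g⁻¹ * h₁) := by group
      have hc := hT _ h1 _ h2
      have h3 : ⁅g * (g⁻¹ * h₁), h₂⁆ = g * ⁅g⁻¹ * h₁, h₂⁆ * g⁻¹ * ⁅g, h₂⁆ := by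
        simp only [commutatorElement_def]; group
      rw [e, h3, commutatorElement_eq_one_iff_mul_comm.mpr hc]
      have h4 := hT _ (hg _ h2) _ (T.inv_mem h2)
      simp only [commutatorElement_def, mul_one, mul_inv_cancel, one_mul, inv_inv]
      rw [h4]; group
    · -- both outside
      set a := g⁻¹ * h₁ with ha
      set b := g⁻¹ * h₂ with hb
      refine ⟨g * (a * b⁻¹) * g⁻¹, hg _ (T.mul_mem h1 (T.inv_mem h2)), ?_⟩
      have e1 : h₁ = g * a := by rw [ha]; group
      have e2 : h₂ = g * b := by rw [hb]; group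
      have hc := hT _ (hg _ (T.mul_mem h2 (T.inv_mem h1))) _ (T.inv_mem h2)
      have h3 : ⁅g * a, g * b⁆ = g * a * (g * (b * a⁻¹) * g⁻¹ * b⁻¹) * g⁻¹ := by
        simp only [commutatorElement_def]; group
      have h4 : ⁅g * (a * b⁻¹) * g⁻¹, g⁆ = g * a * (b⁻¹ * (g * (b * a⁻¹) * g⁻¹)) * g⁻¹ := by
        simp only [commutatorElement_def]; group
      rw [e1, e2, h3, h4, hc]
  intro w hw
  exact hle hw

end Dicyclic

section TransferBound

/-- in a central extension the preimage of a cyclic subgroup is abelian -/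
theorem comm_of_map_mem_zpowers {Y G : Type*} [Group Y] [Group G] (τ : Y →* G)
    (hτ : Function.Surjective τ) (hc : τ.ker ≤ Subgroup.center Y) (x : G) (y₁ y₂ : Y)
    (h₁ : τ y₁ ∈ Subgroup.zpowers x) (h₂ : τ y₂ ∈ Subgroup.zpowers x) : y₁ * y₂ = y₂ * y₁ := by
  obtain ⟨γ, hγ⟩ := hτ x
  obtain ⟨i, hi⟩ := Subgroup.mem_zpowers_iff.mp h₁
  obtain ⟨j, hj⟩ := Subgroup.mem_zpowers_iff.mp h₂
  have hz₁ : (γ ^ i)⁻¹ * y₁ ∈ Subgroup.center Y := by
    apply hc
    rw [MonoidHom.mem_ker, map_mul, map_inv, map_zpow, hγ, hi, inv_mul_cancel]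
  have hz₂ : (γ ^ j)⁻¹ * y₂ ∈ Subgroup.center Y := by
    apply hc
    rw [MonoidHom.mem_ker, map_mul, map_inv, map_zpow, hγ, hj, inv_mul_cancel]
  have e1 : y₁ = γ ^ i * ((γ ^ i)⁻¹ * y₁) := by group
  have e2 : y₂ = γ ^ j * ((γ ^ j)⁻¹ * y₂) := by group
  rw [← commutatorElement_eq_one_iff_mul_comm, e1, e2, comm_mul_central_left hz₁,
    comm_mul_central_right hz₂, commutatorElement_eq_one_iff_mul_comm]
  exact (Commute.zpow_zpow_self γ i j).eq

/-- transfer into the preimage of a subgroup -/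
theorem pow_index_eq_one_of_comap {Y G : Type*} [Group Y] [Group G] [Finite G] (τ : Y →* G)
    (hτ : Function.Surjective τ) {z : Y} (hz : z ∈ Subgroup.center Y) (hz' : z ∈ commutator Y)
    (hzk : τ z = 1) (K : Subgroup G)
    (hK : ∀ w : K.comap τ, w ∈ commutator (K.comap τ) → τ (w : Y) = 1 → (w : Y) = 1) :
    z ^ K.index = 1 := by
  have hidx : (K.comap τ).index = K.index := Subgroup.index_comap_of_surjective K hτ
  have hfi : (K.comap τ).FiniteIndex := ⟨by rw [hidx]; exact Subgroup.FiniteIndex.index_ne_zero⟩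
  obtain ⟨h, hmem⟩ := pow_index_mem_commutator_of_central (K.comap τ) hz hz'
  have h1 := hK ⟨z ^ (K.comap τ).index, h⟩ hmem (by rw [map_pow, hzk, one_pow])
  rw [← hidx]; exact h1

/-- transfer into an abelian preimage -/
theorem pow_index_eq_one_of_comm {Y G : Type*} [Group Y] [Group G] [Finite G] (τ : Y →* G)
    (hτ : Function.Surjective τ) {z : Y} (hz : z ∈ Subgroup.center Y) (hz' : z ∈ commutator Y)
    (hzk : τ z = 1) (K : Subgroup G)
    (hK : ∀ y₁ y₂ : Y, τ y₁ ∈ K → τ y₂ ∈ K → y₁ * y₂ = y₂ * y₁) : z ^ K.index = 1 := by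
  apply pow_index_eq_one_of_comap τ hτ hz hz' hzk K
  intro w hw _
  have hbot : commutator (K.comap τ) = ⊥ := by
    rw [commutator_def, eq_bot_iff, Subgroup.commutator_le]
    intro a _ b _
    rw [Subgroup.mem_bot, commutatorElement_eq_one_iff_mul_comm]
    exact Subtype.ext (hK a b a.2 b.2)
  rw [hbot, Subgroup.mem_bot] at hw
  rw [hw]; rfl

end TransferBound

section SL2Dicyclic

open Cfsg.Agent.Lib.Helper41

variable {F : Type*} [Field F] [Fintype F]

/-- in a central extension of `SL₂(q)`, `q` odd, the commutator subgroup of the preimage of the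
normalizer of a torus meets the kernel trivially -/
theorem eq_one_of_mem_commutator_normalizer (h2 : (2 : F) ≠ 0) {Y : Type*} [Group Y]
    (τ : Y →* Matrix.SpecialLinearGroup (Fin 2) F) (hτ : Function.Surjective τ)
    (hc : τ.ker ≤ Subgroup.center Y) (x : Matrix.SpecialLinearGroup (Fin 2) F)
    (hx : x.1.trace * x.1.trace ≠ 4)
    (w : (Subgroup.normalizer (Subgroup.centralizer ({x} : Set (Matrix.SpecialLinearGroup (Fin 2) F)) :
        Set (Matrix.SpecialLinearGroup (Fin 2) F))).comap τ)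
    (hw : w ∈ commutator ((Subgroup.normalizer
      (Subgroup.centralizer ({x} : Set (Matrix.SpecialLinearGroup (Fin 2) F)) :
        Set (Matrix.SpecialLinearGroup (Fin 2) F))).comap τ))
    (hw1 : τ (w : Y) = 1) : (w : Y) = 1 := by
  classical
  obtain ⟨g, hg⟩ := exists_inverting h2 x hx
  have hxc := not_mem_center_of_trace h2 x hx
  have hgD : g ∈ Subgroup.normalizer
      (Subgroup.centralizer ({x} : Set (Matrix.SpecialLinearGroup (Fin 2) F)) :
        Set (Matrix.SpecialLinearGroup (Fin 2) F)) :=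
    (mem_normalizer_centralizer_iff h2 x hx g).mpr (Or.inr hg)
  have hgT : g ∉ Subgroup.centralizer ({x} : Set (Matrix.SpecialLinearGroup (Fin 2) F)) := by
    intro h
    rw [conj_eq_iff_mem_centralizer, hg] at h
    exact inv_ne_self_of_regular h2 x hx h
  have hgg : g * g = negOne := Subtype.ext (sq_of_mem_normalizer_of_not_mem h2 x hx g hgD hgT)
  obtain ⟨γ, hγ⟩ := hτ g
  have hcyc := isCyclic_centralizer_of_regular h2 x hx
  obtain ⟨t₀, ht₀⟩ := hcyc.exists_generator
  have hTz : ∀ t ∈ Subgroup.centralizer ({x} : Set (Matrix.SpecialLinearGroup (Fin 2) F)),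
      t ∈ Subgroup.zpowers (t₀ : Matrix.SpecialLinearGroup (Fin 2) F) := by
    intro t ht
    obtain ⟨k, hk⟩ := Subgroup.mem_zpowers_iff.mp (ht₀ ⟨t, ht⟩)
    refine Subgroup.mem_zpowers_iff.mpr ⟨k, ?_⟩
    have h1 := congrArg Subtype.val hk
    rw [Subgroup.coe_zpow] at h1
    exact h1
  let T : Subgroup ((Subgroup.normalizer
      (Subgroup.centralizer ({x} : Set (Matrix.SpecialLinearGroup (Fin 2) F)) :
        Set (Matrix.SpecialLinearGroup (Fin 2) F))).comap τ) :=
    ((Subgroup.centralizer ({x} : Set (Matrix.SpecialLinearGroup (Fin 2) F))).comap τ).subgroupOf _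
  have hTmem : ∀ a, a ∈ T ↔
      τ (a : Y) ∈ Subgroup.centralizer ({x} : Set (Matrix.SpecialLinearGroup (Fin 2) F)) :=
    fun a => Iff.rfl
  obtain ⟨a, ha, hwa⟩ := exists_eq_comm_of_index_two T
    (by
      intro a ha b hb
      apply Subtype.ext
      exact comm_of_map_mem_zpowers τ hτ hc _ _ _ (hTz _ ((hTmem a).mp ha))
        (hTz _ ((hTmem b).mp hb)))
    ⟨γ, Subgroup.mem_comap.mpr (by rw [hγ]; exact hgD)⟩
    (by
      intro a ha
      rw [hTmem] at ha ⊢
      show τ (γ * (a : Y) * γ⁻¹) ∈ _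
      rw [map_mul, map_mul, map_inv, hγ, inv_conj_of_mem x g _ hxc hg ha]
      exact Subgroup.inv_mem _ ha)
    (by
      intro h
      have hh : τ (h : Y) ∈ Subgroup.normalizer
          (Subgroup.centralizer ({x} : Set (Matrix.SpecialLinearGroup (Fin 2) F)) :
            Set (Matrix.SpecialLinearGroup (Fin 2) F)) := h.2
      rcases (mem_normalizer_centralizer_iff h2 x hx _).mp hh with h' | h'
      · left
        rw [hTmem, conj_eq_iff_mem_centralizer]
        exact h'
      · right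
        rw [hTmem, conj_eq_iff_mem_centralizer]
        show τ (γ⁻¹ * (h : Y)) * x * (τ (γ⁻¹ * (h : Y)))⁻¹ = x
        rw [map_mul, map_inv, hγ]
        have e : g⁻¹ * τ (h : Y) * x * (g⁻¹ * τ (h : Y))⁻¹ =
            g⁻¹ * (τ (h : Y) * x * (τ (h : Y))⁻¹) * g := by group
        rw [e, h', ← hg]
        group)
    w hw
  have hwa' : (w : Y) = ⁅(a : Y), γ⁆ := by
    have := congrArg Subtype.val hwa
    rw [this]; rfl
  have haT := (hTmem a).mp ha
  have h1 : ⁅τ (a : Y), g⁆ = 1 := by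
    rw [← hγ, ← map_commutatorElement, ← hwa', hw1]
  have h3 : g * τ (a : Y) * g⁻¹ = τ (a : Y) := by
    have := commutatorElement_eq_one_iff_mul_comm.mp h1
    rw [← this]; group
  have h4 : τ (a : Y) * τ (a : Y) = 1 := by
    have h5 := inv_conj_of_mem x g _ hxc hg haT
    rw [h3] at h5
    nth_rewrite 1 [h5]
    group
  rw [hwa', commutatorElement_eq_one_iff_mul_comm]
  rcases sq_eq_one_cases h2 _ h4 with h5 | h5
  · exact (Subgroup.mem_center_iff.mp (hc h5) γ).symm
  · have hz : (γ * γ)⁻¹ * (a : Y) ∈ Subgroup.center Y := by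
      apply hc
      rw [MonoidHom.mem_ker, map_mul, map_inv, map_mul, hγ, h5, hgg, inv_mul_cancel]
    have e : (a : Y) = γ * γ * ((γ * γ)⁻¹ * (a : Y)) := by group
    rw [← commutatorElement_eq_one_iff_mul_comm, e, comm_mul_central_left hz,
      commutatorElement_eq_one_iff_mul_comm]
    group

end SL2Dicyclic

end Cfsg.Agent.Lib.Helper35
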