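import Mathlib
import Cfsg.Prelude.Def_KGroupFacts
import Cfsg.Agent.Lib.Helper35.Schur
import Cfsg.Agent.Lib.Helper35.SL2Dicyclic

set_option autoImplicit false

/-! # Local (Sylow) bounds for kernels of stem extensions

Tools to prove that a central element of a stem extension lying in the commutator subgroup is
trivial, by transfer into preimages of small explicit subgroups. -/

namespace Cfsg.Agent.Lib.Helper35

open scoped commutatorElement

section SchurLocal

variable {Y G : Type*} [Group Y] [Group G]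

/-- in a central extension, the preimage of the closure of a set is abelian as soon as the
preimages of the generators commute pairwise -/
theorem comm_of_map_mem_closure (τ : Y →* G) (hτ : Function.Surjective τ)
    (hc : τ.ker ≤ Subgroup.center Y) (T : Set G)
    (hT : ∀ y₁ y₂ : Y, τ y₁ ∈ T → τ y₂ ∈ T → y₁ * y₂ = y₂ * y₁) (y₁ y₂ : Y)
    (h₁ : τ y₁ ∈ Subgroup.closure T) (h₂ : τ y₂ ∈ Subgroup.closure T) : y₁ * y₂ = y₂ * y₁ := by
  let S : Set Y := τ ⁻¹' T ∪ (τ.ker : Set Y)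
  have hS : ∀ x ∈ S, ∀ y ∈ S, x * y = y * x := by
    rintro x (hx | hx) y (hy | hy)
    · exact hT x y hx hy
    · exact Subgroup.mem_center_iff.mp (hc hy) x
    · exact (Subgroup.mem_center_iff.mp (hc hx) y).symm
    · exact Subgroup.mem_center_iff.mp (hc hy) x
  have key : ∀ g ∈ Subgroup.closure T, ∀ y : Y, τ y = g → y ∈ Subgroup.closure S := by
    intro g hg
    induction hg using Subgroup.closure_induction with
    | mem g hg =>
      intro y hy
      exact Subgroup.subset_closure (Or.inl (by rw [Set.mem_preimage, hy]; exact hg))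
    | one =>
      intro y hy
      exact Subgroup.subset_closure (Or.inr hy)
    | mul a b _ _ iha ihb =>
      intro y hy
      obtain ⟨ya, rfl⟩ := hτ a
      obtain ⟨yb, rfl⟩ := hτ b
      have hk : (ya * yb)⁻¹ * y ∈ Subgroup.closure S := by
        apply Subgroup.subset_closure
        right
        show τ _ = 1
        rw [map_mul, map_inv, map_mul, hy, inv_mul_cancel]
      have e : y = ya * yb * ((ya * yb)⁻¹ * y) := by group
      rw [e]
      exact Subgroup.mul_mem _ (Subgroup.mul_mem _ (iha ya rfl) (ihb yb rfl)) hk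
    | inv a _ iha =>
      intro y hy
      have h := iha y⁻¹ (by rw [map_inv, hy, inv_inv])
      simpa using Subgroup.inv_mem _ h
  have m₁ := key _ h₁ y₁ rfl
  have m₂ := key _ h₂ y₂ rfl
  have hcl := Subgroup.isMulCommutative_closure hS
  exact congrArg Subtype.val (hcl.is_comm.comm (⟨y₁, m₁⟩ : Subgroup.closure S) ⟨y₂, m₂⟩)

/-- a `p`-subgroup properly containing a subgroup of order `p ^ k` has order divisible by
`p ^ (k + 1)` -/
theorem pow_succ_dvd_card_of_pgroup [Finite G] {p : ℕ} [Fact p.Prime] (K H : Subgroup G)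
    (hK : IsPGroup p K) (hHK : H ≤ K) (k : ℕ) (hH : Nat.card H = p ^ k) {x : G} (hxK : x ∈ K)
    (hxH : x ∉ H) : p ^ (k + 1) ∣ Nat.card K := by
  obtain ⟨n, hn⟩ := IsPGroup.iff_card.mp hK
  have hdvd : Nat.card H ∣ Nat.card K := Subgroup.card_dvd_of_le hHK
  rw [hH, hn] at hdvd
  have hp := (Fact.out : p.Prime)
  have hkn : k ≤ n := (Nat.pow_dvd_pow_iff_le_right hp.one_lt).mp hdvd
  rcases Nat.lt_or_ge k n with h | h
  · rw [hn]; exact pow_dvd_pow p h
  · exfalso
    have hkn' : k = n := le_antisymm hkn h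
    have hEq : H = K := Subgroup.eq_of_le_of_card_ge hHK (by rw [hH, hn, hkn'])
    exact hxH (hEq ▸ hxK)

/-- from `z ^ K.index = 1` to an explicit exponent -/
theorem pow_eq_one_of_index [Finite G] {z : Y} (K : Subgroup G) (hz : z ^ K.index = 1)
    (m n : ℕ) (hm : 0 < m) (hG : Nat.card G = m * n) (hK : m ∣ Nat.card K) : z ^ n = 1 := by
  obtain ⟨c, hc⟩ := hK
  have h1 := Subgroup.card_mul_index K
  rw [hc, hG, mul_assoc] at h1
  have h2 : c * K.index = n := Nat.eq_of_mul_eq_mul_left hm h1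
  rw [← h2, mul_comm, pow_mul, hz, one_pow]

/-- the closure of pairwise commuting elements of order dividing `p` is a `p`-group -/
theorem isPGroup_closure_of_comm {p : ℕ} (T : Set G) (hcomm : ∀ x ∈ T, ∀ y ∈ T, x * y = y * x)
    (hpow : ∀ x ∈ T, x ^ p = 1) : IsPGroup p (Subgroup.closure T) := by
  have hcomm' : ∀ a ∈ Subgroup.closure T, ∀ b ∈ Subgroup.closure T, a * b = b * a := by
    intro a ha b hb
    have hcl := Subgroup.isMulCommutative_closure hcomm
    exact congrArg Subtype.val (hcl.is_comm.comm (⟨a, ha⟩ : Subgroup.closure T) ⟨b, hb⟩)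
  have hall : ∀ g ∈ Subgroup.closure T, g ^ p = 1 := by
    intro g hg
    induction hg using Subgroup.closure_induction with
    | mem g hg => exact hpow g hg
    | one => exact one_pow _
    | mul a b ha hb iha ihb =>
      have hab : Commute a b := hcomm' a ha b hb
      rw [hab.mul_pow, iha, ihb, one_mul]
    | inv a _ iha => rw [inv_pow, iha, inv_one]
  rintro ⟨g, hg⟩
  refine ⟨1, ?_⟩
  apply Subtype.ext
  show g ^ p ^ 1 = 1
  rw [pow_one]
  exact hall g hg

/-- semidihedral relations: the subgroup generated by `r` (with `r⁸ = 1`) and an involution `s`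
with `s r s⁻¹ = r³` -/
theorem sd16_closure {r s : G} (hr8 : r ^ 8 = 1) (hs2 : s * s = 1) (hsr : s * r = r ^ 3 * s) :
    ∀ x ∈ Subgroup.closure ({r, s} : Set G), ∃ i : ℕ, x = r ^ i ∨ x = r ^ i * s := by
  have hc : ∀ k : ℕ, s * r ^ k = r ^ (3 * k) * s := by
    intro k
    induction k with
    | zero => simp
    | succ k ih =>
      rw [pow_succ, ← mul_assoc, ih, mul_assoc, hsr, ← mul_assoc, ← pow_add]
      congr 2
  have hsinv : s⁻¹ = s := inv_eq_of_mul_eq_one_left hs2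
  have hrinv : ∀ i : ℕ, (r ^ i)⁻¹ = r ^ (7 * i) := by
    intro i
    apply inv_eq_of_mul_eq_one_right
    rw [← pow_add, show i + 7 * i = 8 * i by ring, pow_mul, hr8, one_pow]
  intro x hx
  induction hx using Subgroup.closure_induction with
  | mem y hy =>
    rcases hy with rfl | rfl
    · exact ⟨1, Or.inl (pow_one _).symm⟩
    · exact ⟨0, Or.inr (by simp)⟩
  | one => exact ⟨0, Or.inl (pow_zero _).symm⟩
  | mul a b _ _ iha ihb =>
    obtain ⟨i, rfl | rfl⟩ := iha <;> obtain ⟨k, rfl | rfl⟩ := ihb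
    · exact ⟨i + k, Or.inl (pow_add _ _ _).symm⟩
    · exact ⟨i + k, Or.inr (by rw [← mul_assoc, ← pow_add])⟩
    · exact ⟨i + 3 * k, Or.inr (by rw [mul_assoc, hc, ← mul_assoc, ← pow_add])⟩
    · refine ⟨i + 3 * k, Or.inl ?_⟩
      calc (r ^ i * s) * (r ^ k * s) = r ^ i * ((s * r ^ k) * s) := by simp only [mul_assoc]
        _ = r ^ i * ((r ^ (3 * k) * s) * s) := by rw [hc]
        _ = r ^ (i + 3 * k) := by rw [mul_assoc, hs2, mul_one, ← pow_add]
  | inv a _ iha =>
    obtain ⟨i, rfl | rfl⟩ := iha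
    · exact ⟨7 * i, Or.inl (hrinv i)⟩
    · refine ⟨3 * (7 * i), Or.inr ?_⟩
      rw [mul_inv_rev, hsinv, hrinv, hc]

/-- the semidihedral group generated by `r`, `s` is a `2`-group -/
theorem sd16_isPGroup {r s : G} (hr8 : r ^ 8 = 1) (hs2 : s * s = 1) (hsr : s * r = r ^ 3 * s) :
    IsPGroup 2 (Subgroup.closure ({r, s} : Set G)) := by
  rintro ⟨x, hx⟩
  refine ⟨3, ?_⟩
  apply Subtype.ext
  show x ^ 2 ^ 3 = 1
  obtain ⟨i, rfl | rfl⟩ := sd16_closure hr8 hs2 hsr x hx
  · rw [← pow_mul, mul_comm, pow_mul]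
    norm_num
    rw [hr8, one_pow]
  · have h2 : (r ^ i * s) * (r ^ i * s) = r ^ (4 * i) := by
      have hc : ∀ k : ℕ, s * r ^ k = r ^ (3 * k) * s := by
        intro k
        induction k with
        | zero => simp
        | succ k ih =>
          rw [pow_succ, ← mul_assoc, ih, mul_assoc, hsr, ← mul_assoc, ← pow_add]
          congr 2
      calc (r ^ i * s) * (r ^ i * s) = r ^ i * ((s * r ^ i) * s) := by simp only [mul_assoc]
        _ = r ^ i * ((r ^ (3 * i) * s) * s) := by rw [hc]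
        _ = r ^ (4 * i) := by
          rw [mul_assoc, hs2, mul_one, ← pow_add]
          congr 1; ring
    have h8 : (r ^ i * s) ^ 2 ^ 3 = ((r ^ i * s) * (r ^ i * s)) ^ 4 := by
      rw [← pow_two, ← pow_mul]
      norm_num
    rw [h8, h2, ← pow_mul, show 4 * i * 4 = 8 * (2 * i) by ring, pow_mul, hr8, one_pow]

/-- in a central extension, a lift of `s` centralizes the fourth power of a lift of `r` when
`s r s⁻¹ = r³` and `s² = 1` -/
theorem sd16_lift_comm (τ : Y →* G) (hc : τ.ker ≤ Subgroup.center Y) {r s : G}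
    (hs2 : s * s = 1) (hsr : s * r = r ^ 3 * s) (ρ σ : Y) (hρ : τ ρ = r) (hσ : τ σ = s) :
    σ * ρ ^ 4 * σ⁻¹ = ρ ^ 4 := by
  have ha : (ρ ^ 3)⁻¹ * (σ * ρ * σ⁻¹) ∈ Subgroup.center Y := by
    apply hc
    show τ _ = 1
    rw [map_mul, map_inv, map_pow, map_mul, map_mul, map_inv, hρ, hσ, hsr, mul_inv_cancel_right,
      inv_mul_cancel]
  obtain ⟨a, ha_def⟩ : ∃ a, a = (ρ ^ 3)⁻¹ * (σ * ρ * σ⁻¹) := ⟨_, rfl⟩
  rw [← ha_def] at ha
  have e1 : σ * ρ * σ⁻¹ = ρ ^ 3 * a := by rw [ha_def]; group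
  have hca : Commute ρ a := Subgroup.mem_center_iff.mp ha ρ
  have hσa : σ * a * σ⁻¹ = a := by
    have h := Subgroup.mem_center_iff.mp ha σ
    rw [h]; group
  have hss : σ * σ ∈ Subgroup.center Y := by
    apply hc
    show τ _ = 1
    rw [map_mul, hσ, hs2]
  have e2 : σ * (σ * ρ * σ⁻¹) * σ⁻¹ = ρ := by
    have h := Subgroup.mem_center_iff.mp hss ρ
    have e : σ * (σ * ρ * σ⁻¹) * σ⁻¹ = (σ * σ) * ρ * (σ * σ)⁻¹ := by group
    rw [e, ← h]; group
  have e3 : σ * (ρ ^ 3 * a) * σ⁻¹ = (ρ ^ 3 * a) ^ 3 * a := by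
    have h : σ * (ρ ^ 3 * a) * σ⁻¹ = (σ * ρ * σ⁻¹) ^ 3 * (σ * a * σ⁻¹) := by
      rw [conj_pow]; group
    rw [h, e1, hσa]
  have e4 : (ρ ^ 3 * a) ^ 3 = ρ ^ 9 * a ^ 3 := by
    rw [(hca.pow_left 3).mul_pow, ← pow_mul]
  have e5 : ρ ^ 8 * a ^ 4 = 1 := by
    have h := e2
    rw [e1, e3, e4] at h
    have h' : ρ * (ρ ^ 8 * a ^ 4) = ρ := by
      rw [← mul_assoc, ← pow_succ', pow_succ a 3, ← mul_assoc]; exact h
    exact mul_eq_left.mp h'
  calc σ * ρ ^ 4 * σ⁻¹ = (σ * ρ * σ⁻¹) ^ 4 := by rw [conj_pow]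
    _ = (ρ ^ 3 * a) ^ 4 := by rw [e1]
    _ = ρ ^ 12 * a ^ 4 := by rw [(hca.pow_left 3).mul_pow, ← pow_mul]
    _ = ρ ^ 4 * (ρ ^ 8 * a ^ 4) := by rw [← mul_assoc, ← pow_add]
    _ = ρ ^ 4 := by rw [e5, mul_one]

/-- in a central extension of a group containing a semidihedral subgroup `⟨r, s⟩` of order `16`,
the commutator subgroup of the preimage of `⟨r, s⟩` meets the kernel trivially -/
theorem sd16_eq_one_of_mem_commutator (τ : Y →* G) (hτ : Function.Surjective τ)
    (hc : τ.ker ≤ Subgroup.center Y) {r s : G} (hr8 : r ^ 8 = 1) (hr4 : r ^ 4 ≠ 1)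
    (hs2 : s * s = 1) (hsr : s * r = r ^ 3 * s)
    (w : (Subgroup.closure ({r, s} : Set G)).comap τ)
    (hw : w ∈ commutator ((Subgroup.closure ({r, s} : Set G)).comap τ))
    (hw1 : τ (w : Y) = 1) : (w : Y) = 1 := by
  obtain ⟨ρ, hρ⟩ := hτ r
  obtain ⟨σ, hσ⟩ := hτ s
  have hsrs : s * r * s⁻¹ = r ^ 3 := by rw [hsr]; group
  have hsinv : s⁻¹ = s := inv_eq_of_mul_eq_one_left hs2
  have hconj : ∀ x ∈ Subgroup.zpowers r, s * x * s⁻¹ ∈ Subgroup.zpowers r := by
    intro x hx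
    obtain ⟨i, rfl⟩ := Subgroup.mem_zpowers_iff.mp hx
    rw [← conj_zpow, hsrs]
    exact Subgroup.zpow_mem _ (Subgroup.pow_mem _ (Subgroup.mem_zpowers r) 3) i
  let T : Subgroup ((Subgroup.closure ({r, s} : Set G)).comap τ) :=
    ((Subgroup.zpowers r).comap τ).subgroupOf _
  have hTmem : ∀ a, a ∈ T ↔ τ (a : Y) ∈ Subgroup.zpowers r := fun a => Iff.rfl
  have hσK : σ ∈ (Subgroup.closure ({r, s} : Set G)).comap τ := by
    rw [Subgroup.mem_comap, hσ]; exact Subgroup.subset_closure (by simp)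
  obtain ⟨a, ha, hwa⟩ := exists_eq_comm_of_index_two T
    (by
      intro a ha b hb
      apply Subtype.ext
      exact comm_of_map_mem_zpowers τ hτ hc r _ _ ((hTmem a).mp ha) ((hTmem b).mp hb))
    ⟨σ, hσK⟩
    (by
      intro a ha
      rw [hTmem] at ha ⊢
      show τ (σ * (a : Y) * σ⁻¹) ∈ _
      rw [map_mul, map_mul, map_inv, hσ]
      exact hconj _ ha)
    (by
      intro h
      have hh : τ (h : Y) ∈ Subgroup.closure ({r, s} : Set G) := h.2
      obtain ⟨i, hi | hi⟩ := sd16_closure hr8 hs2 hsr _ hh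
      · left
        rw [hTmem, hi]
        exact Subgroup.pow_mem _ (Subgroup.mem_zpowers r) i
      · right
        rw [hTmem]
        show τ (σ⁻¹ * (h : Y)) ∈ _
        rw [map_mul, map_inv, hσ, hi, hsinv]
        have e : s * (r ^ i * s) = s * r ^ i * s⁻¹ := by rw [hsinv, mul_assoc]
        rw [e]
        exact hconj _ (Subgroup.pow_mem _ (Subgroup.mem_zpowers r) i))
    w hw
  have hwa' : (w : Y) = ⁅(a : Y), σ⁆ := by
    have h := congrArg Subtype.val hwa
    rw [h]; rfl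
  obtain ⟨i, hi⟩ := Subgroup.mem_zpowers_iff.mp ((hTmem a).mp ha)
  have hk : (ρ ^ i)⁻¹ * (a : Y) ∈ Subgroup.center Y := by
    apply hc
    show τ _ = 1
    rw [map_mul, map_inv, map_zpow, hρ, hi, inv_mul_cancel]
  have ea : (a : Y) = ρ ^ i * ((ρ ^ i)⁻¹ * (a : Y)) := by group
  have hw2 : (w : Y) = ⁅ρ ^ i, σ⁆ := by
    rw [hwa', ea, comm_mul_central_left hk]
  have h1 : ⁅r ^ i, s⁆ = 1 := by
    rw [← hρ, ← hσ, ← map_zpow, ← map_commutatorElement, ← hw2, hw1]
  have h2 : r ^ (2 * i) = 1 := by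
    have hcm := commutatorElement_eq_one_iff_mul_comm.mp h1
    have h3 : s * r ^ i * s⁻¹ = r ^ i := by rw [← hcm]; group
    have h4 : s * r ^ i * s⁻¹ = (r ^ 3) ^ i := by rw [← conj_zpow, hsrs]
    rw [h3] at h4
    have h5 : (r ^ 3) ^ i = r ^ (3 * i) := by
      rw [← zpow_natCast, ← zpow_mul]; norm_num
    rw [h5] at h4
    have h6 : r ^ (2 * i) = r ^ (3 * i) * (r ^ i)⁻¹ := by
      rw [← zpow_neg, ← zpow_add]; congr 1; ring
    rw [h6, ← h4, mul_inv_cancel]
  have hord : orderOf r = 8 := by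
    have : Fact (Nat.Prime 2) := ⟨Nat.prime_two⟩
    have h := orderOf_eq_prime_pow (p := 2) (n := 2) (x := r) (by norm_num; exact hr4)
      (by norm_num; exact hr8)
    simpa using h
  have h8 : (8 : ℤ) ∣ 2 * i := by
    have h := (orderOf_dvd_iff_zpow_eq_one (x := r) (i := 2 * i)).mpr h2
    rwa [hord] at h
  obtain ⟨m, hm⟩ : ∃ m, i = 4 * m := by
    obtain ⟨m, hm⟩ := h8
    exact ⟨m, by omega⟩
  have hcomm4 : Commute σ (ρ ^ 4) := by
    have h := sd16_lift_comm τ hc hs2 hsr ρ σ hρ hσ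
    show σ * ρ ^ 4 = ρ ^ 4 * σ
    calc σ * ρ ^ 4 = (σ * ρ ^ 4 * σ⁻¹) * σ := by group
      _ = ρ ^ 4 * σ := by rw [h]
  rw [hw2, hm, commutatorElement_eq_one_iff_mul_comm]
  have e4 : ρ ^ (4 * m) = (ρ ^ 4) ^ m := by rw [zpow_mul]; norm_cast
  rw [e4]
  exact ((hcomm4.zpow_right m).eq).symm

/-- in a central extension, lifts of two commuting elements `u`, `v` with `u³ = 1` commute as
soon as some element inverts `u` and centralizes `v` -/
theorem comm_of_inverting (τ : Y →* G) (hτ : Function.Surjective τ)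
    (hc : τ.ker ≤ Subgroup.center Y) {u v t : G} (hu3 : u ^ 3 = 1) (huv : u * v = v * u)
    (htu : t * u * t⁻¹ = u⁻¹) (htv : t * v * t⁻¹ = v) (y₁ y₂ : Y)
    (h₁ : τ y₁ ∈ ({u, v} : Set G)) (h₂ : τ y₂ ∈ ({u, v} : Set G)) : y₁ * y₂ = y₂ * y₁ := by
  have key : ∀ a b : Y, τ a = u → τ b = v → a * b = b * a := by
    intro a b ha hb
    obtain ⟨θ, hθ⟩ := hτ t
    have hcz : ⁅a, b⁆ ∈ Subgroup.center Y := by
      apply hc
      show τ _ = 1
      rw [map_commutatorElement, ha, hb, commutatorElement_eq_one_iff_mul_comm]; exact huv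
    have hk1 : a * (θ * a * θ⁻¹) ∈ Subgroup.center Y := by
      apply hc
      show τ _ = 1
      rw [map_mul, map_mul, map_mul, map_inv, ha, hθ, htu, mul_inv_cancel]
    have hk2 : b⁻¹ * (θ * b * θ⁻¹) ∈ Subgroup.center Y := by
      apply hc
      show τ _ = 1
      rw [map_mul, map_inv, map_mul, map_mul, map_inv, hb, hθ, htv, inv_mul_cancel]
    have e1 : θ * a * θ⁻¹ = a⁻¹ * (a * (θ * a * θ⁻¹)) := by group
    have e2 : θ * b * θ⁻¹ = b * (b⁻¹ * (θ * b * θ⁻¹)) := by group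
    have h1 : θ * ⁅a, b⁆ * θ⁻¹ = ⁅a⁻¹, b⁆ := by
      have h : θ * ⁅a, b⁆ * θ⁻¹ = ⁅θ * a * θ⁻¹, θ * b * θ⁻¹⁆ := by
        simp only [commutatorElement_def]; group
      rw [h, e1, e2, comm_mul_central_left hk1, comm_mul_central_right hk2]
    have h2 : θ * ⁅a, b⁆ * θ⁻¹ = ⁅a, b⁆ := by
      have h := Subgroup.mem_center_iff.mp hcz θ
      rw [h]; group
    have h3 : ⁅a⁻¹, b⁆ = ⁅a, b⁆⁻¹ := by
      have h : ⁅a⁻¹, b⁆ = a⁻¹ * ⁅a, b⁆⁻¹ * a := by simp only [commutatorElement_def]; group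
      rw [h]
      have hci := Subgroup.inv_mem _ hcz
      have h' := Subgroup.mem_center_iff.mp hci a⁻¹
      rw [h']; group
    have hsq : ⁅a, b⁆ * ⁅a, b⁆ = 1 := by
      have h : ⁅a, b⁆ = ⁅a, b⁆⁻¹ := by rw [← h3, ← h1, h2]
      nth_rewrite 1 [h]
      exact inv_mul_cancel _
    have hpow : ∀ n : ℕ, ⁅a ^ n, b⁆ = ⁅a, b⁆ ^ n := by
      intro n
      induction n with
      | zero => simp
      | succ n ih =>
        have h : ⁅a ^ (n + 1), b⁆ = a * ⁅a ^ n, b⁆ * a⁻¹ * ⁅a, b⁆ := by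
          rw [pow_succ']; simp only [commutatorElement_def]; group
        rw [h, ih]
        have hcn := Subgroup.pow_mem _ hcz n
        have h' := Subgroup.mem_center_iff.mp hcn a
        rw [h', mul_inv_cancel_right, pow_succ]
    have ha3 : a ^ 3 ∈ Subgroup.center Y := by
      apply hc
      show τ _ = 1
      rw [map_pow, ha, hu3]
    have hcube : ⁅a, b⁆ ^ 3 = 1 := by
      rw [← hpow 3, commutatorElement_eq_one_iff_mul_comm]
      exact (Subgroup.mem_center_iff.mp ha3 b).symm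
    have hone : ⁅a, b⁆ = 1 := by
      have h : ⁅a, b⁆ ^ 3 = ⁅a, b⁆ * ⁅a, b⁆ * ⁅a, b⁆ := by
        rw [pow_succ, pow_two]
      rw [h, hsq, one_mul] at hcube
      exact hcube
    exact commutatorElement_eq_one_iff_mul_comm.mp hone
  rcases h₁ with h₁ | h₁ <;> rcases h₂ with h₂ | h₂
  · exact comm_of_map_mem_zpowers τ hτ hc u y₁ y₂ (by rw [h₁]; exact Subgroup.mem_zpowers u)
      (by rw [h₂]; exact Subgroup.mem_zpowers u)
  · exact key y₁ y₂ h₁ h₂
  · exact (key y₂ y₁ h₂ h₁).symm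
  · exact comm_of_map_mem_zpowers τ hτ hc v y₁ y₂ (by rw [h₁]; exact Subgroup.mem_zpowers v)
      (by rw [h₂]; exact Subgroup.mem_zpowers v)

section Bounds

variable [Finite G]

/-- cyclic subgroups: the kernel of a stem extension has exponent dividing the index of any
cyclic subgroup -/
theorem stem_pow_eq_one_of_orderOf (τ : Y →* G) (hτ : Cfsg.IsStemExtension τ) {z : Y}
    (hz : z ∈ τ.ker) (x : G) (m n : ℕ) (hm : 0 < m) (hx : orderOf x = m)
    (hG : Nat.card G = m * n) : z ^ n = 1 := by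
  have hidx := pow_index_eq_one_of_comm τ hτ.1 (hτ.2.1 hz) (hτ.2.2 hz) hz (Subgroup.zpowers x)
    (fun y₁ y₂ h₁ h₂ => comm_of_map_mem_zpowers τ hτ.1 hτ.2.1 x y₁ y₂ h₁ h₂)
  exact pow_eq_one_of_index _ hidx m n hm hG (by rw [Nat.card_zpowers, hx])

/-- semidihedral Sylow `2`-subgroup of order `16`: the kernel of a stem extension has odd
exponent dividing the index -/
theorem stem_pow_eq_one_of_sd16 (τ : Y →* G) (hτ : Cfsg.IsStemExtension τ) {z : Y}
    (hz : z ∈ τ.ker) {r s : G} (hr8 : r ^ 8 = 1) (hr4 : r ^ 4 ≠ 1) (hs2 : s * s = 1)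
    (hsr : s * r = r ^ 3 * s) (n : ℕ) (hG : Nat.card G = 16 * n) : z ^ n = 1 := by
  have hidx := pow_index_eq_one_of_comap τ hτ.1 (hτ.2.1 hz) (hτ.2.2 hz) hz
    (Subgroup.closure ({r, s} : Set G))
    (fun w hw hw1 => sd16_eq_one_of_mem_commutator τ hτ.1 hτ.2.1 hr8 hr4 hs2 hsr w hw hw1)
  refine pow_eq_one_of_index _ hidx 16 n (by norm_num) hG ?_
  have hp2 : Fact (Nat.Prime 2) := ⟨Nat.prime_two⟩
  have hord : orderOf r = 8 := by
    have h := orderOf_eq_prime_pow (p := 2) (n := 2) (x := r) (by norm_num; exact hr4)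
      (by norm_num; exact hr8)
    simpa using h
  have hs_not : s ∉ Subgroup.zpowers r := by
    intro hmem
    obtain ⟨i, hi⟩ := Subgroup.mem_zpowers_iff.mp hmem
    have hcomm : s * r = r * s := by
      rw [← hi]; exact ((Commute.refl r).zpow_left i).eq
    rw [hsr] at hcomm
    have h3 : r ^ 3 = r := mul_right_cancel hcomm
    have h2 : r ^ 2 = 1 := by
      have h : r ^ 2 * r = 1 * r := by rw [← pow_succ, one_mul]; exact h3
      exact mul_right_cancel h
    exact hr4 (by rw [show 4 = 2 * 2 from rfl, pow_mul, h2, one_pow])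
  have h := pow_succ_dvd_card_of_pgroup (p := 2) (Subgroup.closure ({r, s} : Set G))
    (Subgroup.zpowers r) (sd16_isPGroup hr8 hs2 hsr)
    (Subgroup.zpowers_le.mpr (Subgroup.subset_closure (by simp))) 3
    (by rw [Nat.card_zpowers, hord]; norm_num) (x := s) (Subgroup.subset_closure (by simp))
    hs_not
  simpa using h

/-- elementary abelian Sylow `3`-subgroup of order `9` with an element inverting one generator
and centralizing the other: the kernel of a stem extension has exponent prime to `3` -/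
theorem stem_pow_eq_one_of_c3sq (τ : Y →* G) (hτ : Cfsg.IsStemExtension τ) {z : Y}
    (hz : z ∈ τ.ker) {u v t : G} (hu3 : u ^ 3 = 1) (hu1 : u ≠ 1) (hv3 : v ^ 3 = 1) (hv1 : v ≠ 1)
    (huv : u * v = v * u) (htu : t * u * t⁻¹ = u⁻¹) (htv : t * v * t⁻¹ = v) (n : ℕ)
    (hG : Nat.card G = 9 * n) : z ^ n = 1 := by
  have hidx := pow_index_eq_one_of_comm τ hτ.1 (hτ.2.1 hz) (hτ.2.2 hz) hz
    (Subgroup.closure ({u, v} : Set G))
    (fun y₁ y₂ h₁ h₂ => comm_of_map_mem_closure τ hτ.1 hτ.2.1 ({u, v} : Set G)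
      (fun a b ha hb => comm_of_inverting τ hτ.1 hτ.2.1 hu3 huv htu htv a b ha hb) y₁ y₂ h₁ h₂)
  refine pow_eq_one_of_index _ hidx 9 n (by norm_num) hG ?_
  have hp3 : Fact (Nat.Prime 3) := ⟨Nat.prime_three⟩
  have hord : orderOf u = 3 := orderOf_eq_prime hu3 hu1
  have hv_not : v ∉ Subgroup.zpowers u := by
    intro hmem
    obtain ⟨i, hi⟩ := Subgroup.mem_zpowers_iff.mp hmem
    have h1 : t * v * t⁻¹ = v⁻¹ := by
      rw [← hi, ← conj_zpow, htu, inv_zpow]
    rw [htv] at h1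
    have h2 : v ^ 2 = 1 := by
      rw [pow_two]; nth_rewrite 1 [h1]; exact inv_mul_cancel _
    apply hv1
    have h3 : v ^ 3 = v ^ 2 * v := pow_succ v 2
    rw [h2, one_mul] at h3
    rw [← h3, hv3]
  have hP : IsPGroup 3 (Subgroup.closure ({u, v} : Set G)) := by
    apply isPGroup_closure_of_comm
    · rintro x (rfl | rfl) y (rfl | rfl)
      · rfl
      · exact huv
      · exact huv.symm
      · rfl
    · rintro x (rfl | rfl)
      · exact hu3
      · exact hv3
  have h := pow_succ_dvd_card_of_pgroup (p := 3) (Subgroup.closure ({u, v} : Set G))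
    (Subgroup.zpowers u) hP
    (Subgroup.zpowers_le.mpr (Subgroup.subset_closure (by simp))) 1
    (by rw [Nat.card_zpowers, hord]; norm_num) (x := v) (Subgroup.subset_closure (by simp))
    hv_not
  simpa using h

end Bounds

end SchurLocal

end Cfsg.Agent.Lib.Helper35
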