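import Mathlib
import Cfsg.Prelude.Def_KGroupFacts
import Cfsg.Agent.Lib.Helper35.SchurLocal

set_option autoImplicit false

/-! # Local bounds for stem extensions, II: a Frobenius group `2³ : 7` containing a Sylow
`2`-subgroup -/

namespace Cfsg.Agent.Lib.Helper35

open scoped commutatorElement

section CommGen

/-- if the generators commute modulo a normal subgroup, the commutator subgroup lies in it -/
theorem commutator_le_of_generators {H : Type*} [Group H] (C : Subgroup H) [C.Normal]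
    (S : Set H) (hS : Subgroup.closure S = ⊤) (hcomm : ∀ a ∈ S, ∀ b ∈ S, ⁅a, b⁆ ∈ C) :
    commutator H ≤ C := by
  have h1 : ∀ a ∈ S, QuotientGroup.mk' C a ∈ Subgroup.center (H ⧸ C) := by
    intro a ha
    rw [Subgroup.mem_center_iff]
    intro q
    obtain ⟨x, rfl⟩ := QuotientGroup.mk'_surjective C q
    have hx : x ∈ Subgroup.closure S := by rw [hS]; trivial
    have hx' : x ∈ (Subgroup.centralizer {QuotientGroup.mk' C a}).comap (QuotientGroup.mk' C) := by
      refine (Subgroup.closure_le _).mpr ?_ hx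
      intro b hb
      rw [SetLike.mem_coe, Subgroup.mem_comap, Subgroup.mem_centralizer_iff]
      rintro _ rfl
      have hab := hcomm a ha b hb
      rw [← commutatorElement_eq_one_iff_mul_comm, ← map_commutatorElement]
      exact (QuotientGroup.eq_one_iff _).mpr hab
    rw [Subgroup.mem_comap, Subgroup.mem_centralizer_iff] at hx'
    exact (hx' _ rfl).symm
  have h2 : ∀ x : H, QuotientGroup.mk' C x ∈ Subgroup.center (H ⧸ C) := by
    intro x
    have hx : x ∈ Subgroup.closure S := by rw [hS]; trivial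
    have hx' : x ∈ (Subgroup.center (H ⧸ C)).comap (QuotientGroup.mk' C) :=
      (Subgroup.closure_le _).mpr (fun a ha => h1 a ha) hx
    exact hx'
  rw [commutator_def, Subgroup.commutator_le]
  intro x _ y _
  have h3 := Subgroup.mem_center_iff.mp (h2 y) (QuotientGroup.mk' C x)
  have h4 : QuotientGroup.mk' C ⁅x, y⁆ = 1 := by
    rw [map_commutatorElement, commutatorElement_eq_one_iff_mul_comm]
    exact h3
  exact (QuotientGroup.eq_one_iff _).mp h4

/-- the commutator subgroup of an extension of an abelian normal subgroup `T` by a cyclic group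
generated by `g` consists of the commutators `⁅a, g⁆`, `a ∈ T` -/
theorem exists_eq_comm_of_cyclic_ext {H : Type*} [Group H] (T : Subgroup H)
    (hT : ∀ a ∈ T, ∀ b ∈ T, a * b = b * a) (g : H)
    (hg : ∀ a ∈ T, g * a * g⁻¹ ∈ T) (hg' : ∀ a ∈ T, g⁻¹ * a * g ∈ T)
    (hH : ∀ h : H, ∃ a ∈ T, ∃ n : ℤ, h = a * g ^ n) :
    ∀ w ∈ commutator H, ∃ a ∈ T, w = ⁅a, g⁆ := by
  have hκmul : ∀ a ∈ T, ∀ b ∈ T, ⁅a * b, g⁆ = ⁅a, g⁆ * ⁅b, g⁆ := by
    intro a ha b hb
    have h1 : ⁅a * b, g⁆ = a * b * (g * b⁻¹ * g⁻¹) * (g * a⁻¹ * g⁻¹) := by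
      simp only [commutatorElement_def]; group
    have h2 : ⁅a, g⁆ * ⁅b, g⁆ = a * (g * a⁻¹ * g⁻¹) * b * (g * b⁻¹ * g⁻¹) := by
      simp only [commutatorElement_def]; group
    have ha' : g * a⁻¹ * g⁻¹ ∈ T := hg _ (T.inv_mem ha)
    have hb' : g * b⁻¹ * g⁻¹ ∈ T := hg _ (T.inv_mem hb)
    rw [h1, h2, mul_assoc a b, mul_assoc a (b * _), mul_assoc a (g * a⁻¹ * g⁻¹), mul_assoc a,
      hT _ (T.mul_mem hb hb') _ ha', mul_assoc (g * a⁻¹ * g⁻¹)]
  let C : Subgroup H :=
    { carrier := {w | ∃ a ∈ T, w = ⁅a, g⁆}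
      mul_mem' := by
        rintro _ _ ⟨a, ha, rfl⟩ ⟨b, hb, rfl⟩
        exact ⟨a * b, T.mul_mem ha hb, (hκmul a ha b hb).symm⟩
      one_mem' := ⟨1, T.one_mem, by simp⟩
      inv_mem' := by
        rintro _ ⟨a, ha, rfl⟩
        refine ⟨a⁻¹, T.inv_mem ha, ?_⟩
        have h1 := hκmul a ha a⁻¹ (T.inv_mem ha)
        rw [mul_inv_cancel, commutatorElement_one_left] at h1
        exact inv_eq_of_mul_eq_one_right h1.symm }
  have hCT : ∀ w ∈ C, w ∈ T := by
    rintro _ ⟨a, ha, rfl⟩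
    have h1 : ⁅a, g⁆ = a * (g * a⁻¹ * g⁻¹) := by simp only [commutatorElement_def]; group
    rw [h1]
    exact T.mul_mem ha (hg _ (T.inv_mem ha))
  have hCg : ∀ w ∈ C, g * w * g⁻¹ ∈ C := by
    rintro _ ⟨a, ha, rfl⟩
    refine ⟨g * a * g⁻¹, hg a ha, ?_⟩
    simp only [commutatorElement_def]; group
  have hCg' : ∀ w ∈ C, g⁻¹ * w * g ∈ C := by
    rintro _ ⟨a, ha, rfl⟩
    refine ⟨g⁻¹ * a * g, hg' a ha, ?_⟩
    simp only [commutatorElement_def]; group
  have hCz : ∀ n : ℤ, ∀ w ∈ C, g ^ n * w * (g ^ n)⁻¹ ∈ C := by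
    intro n
    induction n using Int.induction_on with
    | zero => intro w hw; simpa using hw
    | succ n ih =>
      intro w hw
      have e : g ^ ((n : ℤ) + 1) * w * (g ^ ((n : ℤ) + 1))⁻¹ =
          g * (g ^ (n : ℤ) * w * (g ^ (n : ℤ))⁻¹) * g⁻¹ := by
        rw [zpow_add_one]; group
      rw [e]
      exact hCg _ (ih w hw)
    | pred n ih =>
      intro w hw
      have e : g ^ (-(n : ℤ) - 1) * w * (g ^ (-(n : ℤ) - 1))⁻¹ =
          g⁻¹ * (g ^ (-(n : ℤ)) * w * (g ^ (-(n : ℤ)))⁻¹) * g := by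
        rw [zpow_sub_one]; group
      rw [e]
      exact hCg' _ (ih w hw)
  have hCn : C.Normal := by
    constructor
    intro w hw h
    obtain ⟨a, ha, n, rfl⟩ := hH h
    have h1 := hCz n w hw
    have h2 := hCT _ h1
    have e : a * g ^ n * w * (a * g ^ n)⁻¹ = a * (g ^ n * w * (g ^ n)⁻¹) * a⁻¹ := by group
    rw [e, hT a ha _ h2, mul_inv_cancel_right]
    exact h1
  have hle : commutator H ≤ C := by
    apply commutator_le_of_generators C ((T : Set H) ∪ {g})
    · rw [eq_top_iff]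
      intro h _
      obtain ⟨a, ha, n, rfl⟩ := hH h
      exact Subgroup.mul_mem _ (Subgroup.subset_closure (Set.mem_union_left _ ha))
        (Subgroup.zpow_mem _ (Subgroup.subset_closure
          (Set.mem_union_right _ (Set.mem_singleton g))) n)
    · intro a ha b hb
      rcases ha with ha | ha <;> rcases hb with hb | hb
      · have h0 : ⁅a, b⁆ = 1 := commutatorElement_eq_one_iff_mul_comm.mpr (hT a ha b hb)
        rw [h0]; exact C.one_mem
      · rw [Set.mem_singleton_iff] at hb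
        rw [hb]
        exact ⟨a, ha, rfl⟩
      · rw [Set.mem_singleton_iff] at ha
        rw [ha]
        have h0 : ⁅g, b⁆ = ⁅b, g⁆⁻¹ := (commutatorElement_inv b g).symm
        rw [h0]
        exact C.inv_mem ⟨b, hb, rfl⟩
      · rw [Set.mem_singleton_iff] at ha hb
        rw [ha, hb, commutatorElement_self]; exact C.one_mem
  intro w hw
  exact hle hw

/-- elements of the subgroup generated by a subgroup `P` and an element `t` normalizing it -/
theorem exists_mul_zpow_of_mem_closure {G : Type*} [Group G] (P : Subgroup G) (t : G)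
    (h1 : ∀ p ∈ P, t * p * t⁻¹ ∈ P) (h2 : ∀ p ∈ P, t⁻¹ * p * t ∈ P) :
    ∀ k ∈ Subgroup.closure ((P : Set G) ∪ {t}), ∃ p ∈ P, ∃ n : ℤ, k = p * t ^ n := by
  have hz : ∀ n : ℤ, ∀ p ∈ P, t ^ n * p * (t ^ n)⁻¹ ∈ P := by
    intro n
    induction n using Int.induction_on with
    | zero => intro p hp; simpa using hp
    | succ n ih =>
      intro p hp
      have e : t ^ ((n : ℤ) + 1) * p * (t ^ ((n : ℤ) + 1))⁻¹ =
          t * (t ^ (n : ℤ) * p * (t ^ (n : ℤ))⁻¹) * t⁻¹ := by
        rw [zpow_add_one]; group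
      rw [e]
      exact h1 _ (ih p hp)
    | pred n ih =>
      intro p hp
      have e : t ^ (-(n : ℤ) - 1) * p * (t ^ (-(n : ℤ) - 1))⁻¹ =
          t⁻¹ * (t ^ (-(n : ℤ)) * p * (t ^ (-(n : ℤ)))⁻¹) * t := by
        rw [zpow_sub_one]; group
      rw [e]
      exact h2 _ (ih p hp)
  intro k hk
  induction hk using Subgroup.closure_induction with
  | mem x hx =>
    rcases hx with hx | rfl
    · exact ⟨x, hx, 0, by simp⟩
    · exact ⟨1, P.one_mem, 1, by simp⟩
  | one => exact ⟨1, P.one_mem, 0, by simp⟩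
  | mul x y _ _ ihx ihy =>
    obtain ⟨p, hp, n, rfl⟩ := ihx
    obtain ⟨q, hq, m, rfl⟩ := ihy
    refine ⟨p * (t ^ n * q * (t ^ n)⁻¹), P.mul_mem hp (hz n q hq), n + m, ?_⟩
    rw [zpow_add]; group
  | inv x _ ihx =>
    obtain ⟨p, hp, n, rfl⟩ := ihx
    refine ⟨t ^ (-n) * p⁻¹ * (t ^ (-n))⁻¹, hz (-n) _ (P.inv_mem hp), -n, ?_⟩
    group

end CommGen

section C2Cube

variable {G : Type*} [Group G] {a b c t : G}

/-- conjugation by `g` maps the closure of `S` into `Q` as soon as it maps `S` into `Q` -/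
theorem conj_mem_of_mem_closure (S : Set G) (Q : Subgroup G) (g : G)
    (h : ∀ x ∈ S, g * x * g⁻¹ ∈ Q) : ∀ x ∈ Subgroup.closure S, g * x * g⁻¹ ∈ Q := by
  intro x hx
  induction hx using Subgroup.closure_induction with
  | mem x hx => exact h x hx
  | one => simp
  | mul x y _ _ ihx ihy =>
    have e : g * (x * y) * g⁻¹ = (g * x * g⁻¹) * (g * y * g⁻¹) := by group
    rw [e]; exact Q.mul_mem ihx ihy
  | inv x _ ihx =>
    have e : g * x⁻¹ * g⁻¹ = (g * x * g⁻¹)⁻¹ := by group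
    rw [e]; exact Q.inv_mem ihx

/-- elements of the closure of two commuting elements -/
theorem exists_zpow_mul_zpow_of_mem_closure {a b : G} (hab : a * b = b * a) :
    ∀ x ∈ Subgroup.closure ({a, b} : Set G), ∃ m n : ℤ, x = a ^ m * b ^ n := by
  have hc : Commute a b := hab
  intro x hx
  induction hx using Subgroup.closure_induction with
  | mem x hx =>
    rcases hx with rfl | rfl
    · exact ⟨1, 0, by simp⟩
    · exact ⟨0, 1, by simp⟩
  | one => exact ⟨0, 0, by simp⟩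
  | mul x y _ _ ihx ihy =>
    obtain ⟨m, n, rfl⟩ := ihx
    obtain ⟨m', n', rfl⟩ := ihy
    refine ⟨m + m', n + n', ?_⟩
    have h1 : b ^ n * a ^ m' = a ^ m' * b ^ n := ((hc.zpow_zpow m' n).eq).symm
    calc a ^ m * b ^ n * (a ^ m' * b ^ n') = a ^ m * (b ^ n * a ^ m') * b ^ n' := by group
      _ = a ^ m * (a ^ m' * b ^ n) * b ^ n' := by rw [h1]
      _ = a ^ (m + m') * b ^ (n + n') := by rw [zpow_add, zpow_add]; group
  | inv x _ ihx =>
    obtain ⟨m, n, rfl⟩ := ihx
    refine ⟨-m, -n, ?_⟩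
    have h1 : b ^ (-n) * a ^ (-m) = a ^ (-m) * b ^ (-n) := ((hc.zpow_zpow (-m) (-n)).eq).symm
    calc (a ^ m * b ^ n)⁻¹ = b ^ (-n) * a ^ (-m) := by group
      _ = a ^ (-m) * b ^ (-n) := h1

/-- integer powers of an involution -/
theorem zpow_eq_one_or_self {x : G} (h : x * x = 1) (i : ℤ) : x ^ i = 1 ∨ x ^ i = x := by
  have h2 : x ^ (2 : ℤ) = 1 := by rw [zpow_two]; exact h
  have e : x ^ i = x ^ (i % 2) := by
    conv_lhs => rw [← Int.mul_ediv_add_emod i 2]
    rw [zpow_add, zpow_mul, h2, one_zpow, one_mul]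
  rcases Int.emod_two_eq_zero_or_one i with h0 | h1
  · left; rw [e, h0, zpow_zero]
  · right; rw [e, h1, zpow_one]

/-- basic consequences of the relations of `2³ : 7` -/
theorem c2cube_basic (ha2 : a * a = 1) (hta : t * a = b * t) (htb : t * b = c * t)
    (htc : t * c = a * b * t) (hab : a * b = b * a) :
    t * a * t⁻¹ = b ∧ t * b * t⁻¹ = c ∧ t * c * t⁻¹ = a * b ∧ b * b = 1 ∧ c * c = 1 ∧
      b * c = c * b ∧ t⁻¹ * a * t = c * a ∧ t⁻¹ * b * t = a ∧ t⁻¹ * c * t = b := by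
  have e1 : t * a * t⁻¹ = b := by rw [hta]; group
  have e2 : t * b * t⁻¹ = c := by rw [htb]; group
  have e3 : t * c * t⁻¹ = a * b := by rw [htc]; group
  have hb2 : b * b = 1 := by
    calc b * b = t * (a * a) * t⁻¹ := by rw [← e1]; group
      _ = 1 := by rw [ha2]; group
  have hc2 : c * c = 1 := by
    calc c * c = t * (b * b) * t⁻¹ := by rw [← e2]; group
      _ = 1 := by rw [hb2]; group
  have hbc : b * c = c * b := by
    calc b * c = t * (a * b) * t⁻¹ := by rw [← e2, ← e1]; group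
      _ = t * (b * a) * t⁻¹ := by rw [hab]
      _ = c * b := by rw [← e2, ← e1]; group
  have e4 : t * (c * a) * t⁻¹ = a := by
    calc t * (c * a) * t⁻¹ = (t * c * t⁻¹) * (t * a * t⁻¹) := by group
      _ = a * b * b := by rw [e3, e1]
      _ = a := by rw [mul_assoc, hb2, mul_one]
  refine ⟨e1, e2, e3, hb2, hc2, hbc, ?_, ?_, ?_⟩
  · calc t⁻¹ * a * t = t⁻¹ * (t * (c * a) * t⁻¹) * t := by rw [e4]
      _ = c * a := by group
  · rw [← e1]; group
  · rw [← e2]; group

variable (ha2 : a * a = 1) (hta : t * a = b * t) (htb : t * b = c * t)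
  (htc : t * c = a * b * t) (hab : a * b = b * a) (hac : a * c = c * a)

include ha2 hta htb htc hab hac

theorem c2cube_pair_comm : ∀ x ∈ ({a, b, c} : Set G), ∀ y ∈ ({a, b, c} : Set G),
    x * y = y * x := by
  obtain ⟨-, -, -, -, -, hbc, -, -, -⟩ := c2cube_basic ha2 hta htb htc hab
  rintro x (rfl | rfl | rfl) y (rfl | rfl | rfl)
  · rfl
  · exact hab
  · exact hac
  · exact hab.symm
  · rfl
  · exact hbc
  · exact hac.symm
  · exact hbc.symm
  · rfl

theorem c2cube_comm : ∀ x ∈ Subgroup.closure ({a, b, c} : Set G),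
    ∀ y ∈ Subgroup.closure ({a, b, c} : Set G), x * y = y * x := by
  intro x hx y hy
  have hcl := Subgroup.isMulCommutative_closure (c2cube_pair_comm ha2 hta htb htc hab hac)
  exact congrArg Subtype.val (hcl.is_comm.comm
    (⟨x, hx⟩ : Subgroup.closure ({a, b, c} : Set G)) ⟨y, hy⟩)

theorem c2cube_conj_mem : ∀ x ∈ Subgroup.closure ({a, b, c} : Set G),
    t * x * t⁻¹ ∈ Subgroup.closure ({a, b, c} : Set G) := by
  obtain ⟨e1, e2, e3, -, -, -, -, -, -⟩ := c2cube_basic ha2 hta htb htc hab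
  apply conj_mem_of_mem_closure
  rintro x (rfl | rfl | rfl)
  · rw [e1]; exact Subgroup.subset_closure (by simp)
  · rw [e2]; exact Subgroup.subset_closure (by simp)
  · rw [e3]
    exact Subgroup.mul_mem _ (Subgroup.subset_closure (by simp)) (Subgroup.subset_closure (by simp))

theorem c2cube_conj_mem' : ∀ x ∈ Subgroup.closure ({a, b, c} : Set G),
    t⁻¹ * x * t ∈ Subgroup.closure ({a, b, c} : Set G) := by
  obtain ⟨-, -, -, -, -, -, e5, e6, e7⟩ := c2cube_basic ha2 hta htb htc hab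
  have h := conj_mem_of_mem_closure ({a, b, c} : Set G) (Subgroup.closure ({a, b, c} : Set G)) t⁻¹
    (by
      rintro x (rfl | rfl | rfl)
      · rw [inv_inv, e5]
        exact Subgroup.mul_mem _ (Subgroup.subset_closure (by simp))
          (Subgroup.subset_closure (by simp))
      · rw [inv_inv, e6]; exact Subgroup.subset_closure (by simp)
      · rw [inv_inv, e7]; exact Subgroup.subset_closure (by simp))
  intro x hx
  have h' := h x hx
  rwa [inv_inv] at h'

/-- the automorphism induced by `t` satisfies `φ³ = 1 + φ` on `⟨a, b, c⟩` -/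
theorem c2cube_cube : ∀ x ∈ Subgroup.closure ({a, b, c} : Set G),
    t * (t * (t * x * t⁻¹) * t⁻¹) * t⁻¹ = x * (t * x * t⁻¹) := by
  obtain ⟨e1, e2, e3, -, -, hbc, -, -, -⟩ := c2cube_basic ha2 hta htb htc hab
  have hcomm := c2cube_comm ha2 hta htb htc hab hac
  have hconj := c2cube_conj_mem ha2 hta htb htc hab hac
  intro x hx
  induction hx using Subgroup.closure_induction with
  | mem x hx =>
    rcases hx with h | h | h
    · rw [h, e1, e2, e3]
    · rw [h, e2, e3]
      calc t * (a * b) * t⁻¹ = (t * a * t⁻¹) * (t * b * t⁻¹) := by group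
        _ = b * c := by rw [e1, e2]
    · have h' : x = c := h
      rw [h', e3]
      calc t * (t * (a * b) * t⁻¹) * t⁻¹
          = t * ((t * a * t⁻¹) * (t * b * t⁻¹)) * t⁻¹ := by group
        _ = t * (b * c) * t⁻¹ := by rw [e1, e2]
        _ = (t * b * t⁻¹) * (t * c * t⁻¹) := by group
        _ = c * (a * b) := by rw [e2, e3]
  | one => group
  | mul x y hx hy ihx ihy =>
    have h1 : t * (t * (t * (x * y) * t⁻¹) * t⁻¹) * t⁻¹ =
        (t * (t * (t * x * t⁻¹) * t⁻¹) * t⁻¹) * (t * (t * (t * y * t⁻¹) * t⁻¹) * t⁻¹) := by group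
    have h2 : (t * x * t⁻¹) * y = y * (t * x * t⁻¹) := hcomm _ (hconj x hx) _ hy
    rw [h1, ihx, ihy]
    calc x * (t * x * t⁻¹) * (y * (t * y * t⁻¹)) = x * ((t * x * t⁻¹) * y) * (t * y * t⁻¹) := by
          group
      _ = x * (y * (t * x * t⁻¹)) * (t * y * t⁻¹) := by rw [h2]
      _ = x * y * (t * (x * y) * t⁻¹) := by group
  | inv x hx ihx =>
    have h1 : t * (t * (t * x⁻¹ * t⁻¹) * t⁻¹) * t⁻¹ =
        (t * (t * (t * x * t⁻¹) * t⁻¹) * t⁻¹)⁻¹ := by
      simp only [mul_inv_rev, inv_inv, mul_assoc]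
    have h2 : (t * x * t⁻¹) * x = x * (t * x * t⁻¹) := hcomm _ (hconj x hx) _ hx
    rw [h1, ihx]
    calc (x * (t * x * t⁻¹))⁻¹ = ((t * x * t⁻¹) * x)⁻¹ := by rw [h2]
      _ = x⁻¹ * (t * x⁻¹ * t⁻¹) := by group

/-- `t` acts without fixed points on `⟨a, b, c⟩` -/
theorem c2cube_fixed {x : G} (hx : x ∈ Subgroup.closure ({a, b, c} : Set G))
    (hxt : t * x = x * t) : x = 1 := by
  have h1 : t * x * t⁻¹ = x := by rw [hxt]; group
  have h2 := c2cube_cube ha2 hta htb htc hab hac x hx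
  rw [h1, h1, h1] at h2
  exact (mul_eq_left.mp h2.symm)

/-- `⟨a, b, c⟩` has order divisible by `8` -/
theorem c2cube_card [Finite G] (ha1 : a ≠ 1) :
    8 ∣ Nat.card (Subgroup.closure ({a, b, c} : Set G)) := by
  obtain ⟨e1, e2, e3, hb2, hc2, hbc, e5, e6, e7⟩ := c2cube_basic ha2 hta htb htc hab
  have hfix := fun x hx hxt => c2cube_fixed (x := x) ha2 hta htb htc hab hac hx hxt
  have hp2 : Fact (Nat.Prime 2) := ⟨Nat.prime_two⟩
  have hb1 : b ≠ 1 := by
    intro h
    apply ha1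
    rw [← e6, h]; group
  have hc1 : c ≠ 1 := by
    intro h
    apply hb1
    rw [← e7, h]; group
  have haP : a ∈ Subgroup.closure ({a, b, c} : Set G) := Subgroup.subset_closure (by simp)
  have hbP : b ∈ Subgroup.closure ({a, b, c} : Set G) := Subgroup.subset_closure (by simp)
  have hcP : c ∈ Subgroup.closure ({a, b, c} : Set G) := Subgroup.subset_closure (by simp)
  have hP : IsPGroup 2 (Subgroup.closure ({a, b, c} : Set G)) := by
    apply isPGroup_closure_of_comm _ (c2cube_pair_comm ha2 hta htb htc hab hac)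
    rintro x (rfl | rfl | rfl)
    · rw [pow_two]; exact ha2
    · rw [pow_two]; exact hb2
    · rw [pow_two]; exact hc2
  have hle : Subgroup.closure ({a, b} : Set G) ≤ Subgroup.closure ({a, b, c} : Set G) := by
    apply Subgroup.closure_mono
    intro x hx
    rcases hx with rfl | rfl
    · simp
    · simp
  have hP2 : IsPGroup 2 (Subgroup.closure ({a, b} : Set G)) := by
    apply isPGroup_closure_of_comm
    · rintro x (rfl | rfl) y (rfl | rfl)
      · rfl
      · exact hab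
      · exact hab.symm
      · rfl
    · rintro x (rfl | rfl)
      · rw [pow_two]; exact ha2
      · rw [pow_two]; exact hb2
  have hord : orderOf a = 2 := orderOf_eq_prime (by rw [pow_two]; exact ha2) ha1
  have hb_not : b ∉ Subgroup.zpowers a := by
    intro hmem
    obtain ⟨i, hi⟩ := Subgroup.mem_zpowers_iff.mp hmem
    rcases zpow_eq_one_or_self ha2 i with h | h
    · exact hb1 (by rw [← hi, h])
    · have hba : b = a := by rw [← hi, h]
      apply ha1
      apply hfix a haP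
      rw [hta, hba]
  have h4 : 2 ^ (1 + 1) ∣ Nat.card (Subgroup.closure ({a, b} : Set G)) :=
    pow_succ_dvd_card_of_pgroup (p := 2) (Subgroup.closure ({a, b} : Set G))
      (Subgroup.zpowers a) hP2 (Subgroup.zpowers_le.mpr (Subgroup.subset_closure (by simp))) 1
      (by rw [Nat.card_zpowers, hord]; norm_num) (x := b) (Subgroup.subset_closure (by simp))
      hb_not
  have hc_not : c ∉ Subgroup.closure ({a, b} : Set G) := by
    intro hmem
    obtain ⟨m, n, hmn⟩ := exists_zpow_mul_zpow_of_mem_closure hab c hmem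
    have hc1' : c = 1 → False := hc1
    have hcb : c = b → False := by
      intro h
      apply hb1
      apply hfix b hbP
      rw [htb, h]
    have hca : c = a → False := by
      intro h
      apply ha1
      have h1 : b = a * b := by rw [← e3, h, e1]
      exact (mul_eq_right.mp h1.symm)
    have hcab : c = a * b → False := by
      intro h
      apply hc1
      apply hfix c hcP
      rw [htc, h]
    rcases zpow_eq_one_or_self ha2 m with h | h <;> rcases zpow_eq_one_or_self hb2 n with h' | h'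
    · exact hc1' (by rw [hmn, h, h', one_mul])
    · exact hcb (by rw [hmn, h, h', one_mul])
    · exact hca (by rw [hmn, h, h', mul_one])
    · exact hcab (by rw [hmn, h, h'])
  -- from 4 ∣ |⟨a, b⟩| to 8 ∣ |⟨a, b, c⟩|
  obtain ⟨n₂, hn₂⟩ := IsPGroup.iff_card.mp hP2
  obtain ⟨n₃, hn₃⟩ := IsPGroup.iff_card.mp hP
  rw [hn₂] at h4
  have h2le : 2 ≤ n₂ := (Nat.pow_dvd_pow_iff_le_right (by norm_num)).mp h4
  have hdvd : Nat.card (Subgroup.closure ({a, b} : Set G)) ∣
      Nat.card (Subgroup.closure ({a, b, c} : Set G)) := Subgroup.card_dvd_of_le hle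
  rw [hn₂, hn₃] at hdvd
  have h23 : n₂ ≤ n₃ := (Nat.pow_dvd_pow_iff_le_right (by norm_num)).mp hdvd
  have hne : n₂ ≠ n₃ := by
    intro h
    have hEq : Subgroup.closure ({a, b} : Set G) = Subgroup.closure ({a, b, c} : Set G) :=
      Subgroup.eq_of_le_of_card_ge hle (by rw [hn₂, hn₃, h])
    exact hc_not (hEq ▸ hcP)
  rw [hn₃]
  exact pow_dvd_pow 2 (show 3 ≤ n₃ by omega)

end C2Cube

section C2CubeLift

variable {Y G : Type*} [Group Y] [Group G] {a b c t : G}

/-- in a central extension, lifts of the generators `a`, `b`, `c` of the normal `2³` of a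
Frobenius group `2³ : 7` commute -/
theorem c2cube_lift_comm (τ : Y →* G) (hτ : Function.Surjective τ)
    (hc : τ.ker ≤ Subgroup.center Y) (ha2 : a * a = 1) (hta : t * a = b * t)
    (htb : t * b = c * t) (htc : t * c = a * b * t) (hab : a * b = b * a) (hac : a * c = c * a)
    (y₁ y₂ : Y) (h₁ : τ y₁ ∈ ({a, b, c} : Set G)) (h₂ : τ y₂ ∈ ({a, b, c} : Set G)) :
    y₁ * y₂ = y₂ * y₁ := by
  obtain ⟨e1, e2, e3, hb2, hc2, hbc, -, -, -⟩ := c2cube_basic ha2 hta htb htc hab
  obtain ⟨α, hα⟩ := hτ a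
  obtain ⟨θ, hθ⟩ := hτ t
  obtain ⟨β, hβdef⟩ : ∃ β, β = θ * α * θ⁻¹ := ⟨_, rfl⟩
  obtain ⟨γ, hγdef⟩ : ∃ γ, γ = θ * β * θ⁻¹ := ⟨_, rfl⟩
  obtain ⟨δ, hδdef⟩ : ∃ δ, δ = θ * γ * θ⁻¹ := ⟨_, rfl⟩
  have hβ : τ β = b := by rw [hβdef, map_mul, map_mul, map_inv, hα, hθ, e1]
  have hγ : τ γ = c := by rw [hγdef, map_mul, map_mul, map_inv, hβ, hθ, e2]
  have hδ : τ δ = a * b := by rw [hδdef, map_mul, map_mul, map_inv, hγ, hθ, e3]
  have hker : ∀ x y : Y, τ x * τ y = τ y * τ x → ⁅x, y⁆ ∈ Subgroup.center Y := by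
    intro x y h
    apply hc
    show τ _ = 1
    rw [map_commutatorElement, commutatorElement_eq_one_iff_mul_comm]; exact h
  have hf1 : ⁅α, β⁆ ∈ Subgroup.center Y := hker α β (by rw [hα, hβ]; exact hab)
  have hf2 : ⁅α, γ⁆ ∈ Subgroup.center Y := hker α γ (by rw [hα, hγ]; exact hac)
  have hconj : ∀ x y : Y, ⁅θ * x * θ⁻¹, θ * y * θ⁻¹⁆ = θ * ⁅x, y⁆ * θ⁻¹ := by
    intro x y; simp only [commutatorElement_def]; group
  have hcen : ∀ z ∈ Subgroup.center Y, θ * z * θ⁻¹ = z := by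
    intro z hz
    have h := Subgroup.mem_center_iff.mp hz θ
    rw [h]; group
  have hA : ⁅β, γ⁆ = ⁅α, β⁆ := by
    have h : ⁅β, γ⁆ = θ * ⁅α, β⁆ * θ⁻¹ := by rw [← hconj, ← hβdef, ← hγdef]
    rw [h, hcen _ hf1]
  have hB : ⁅β, δ⁆ = ⁅α, γ⁆ := by
    have h : ⁅β, δ⁆ = θ * ⁅α, γ⁆ * θ⁻¹ := by rw [← hconj, ← hβdef, ← hδdef]
    rw [h, hcen _ hf2]
  have hC : ⁅γ, δ⁆ = ⁅α, β⁆ := by
    have h : ⁅γ, δ⁆ = θ * ⁅β, γ⁆ * θ⁻¹ := by rw [← hconj, ← hγdef, ← hδdef]
    rw [h, hA, hcen _ hf1]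
  have hz1 : (α * β)⁻¹ * δ ∈ Subgroup.center Y := by
    apply hc
    show τ _ = 1
    rw [map_mul, map_inv, map_mul, hα, hβ, hδ, inv_mul_cancel]
  have eδ : δ = α * β * ((α * β)⁻¹ * δ) := by group
  have hsplit : ∀ x y z : Y, ⁅x, y * z⁆ = ⁅x, y⁆ * (y * ⁅x, z⁆ * y⁻¹) := by
    intro x y z; simp only [commutatorElement_def]; group
  have hD : ⁅β, δ⁆ = ⁅α, β⁆⁻¹ := by
    rw [eδ, comm_mul_central_right hz1, hsplit, commutatorElement_self, mul_one, mul_inv_cancel,
      mul_one, commutatorElement_inv]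
  have hE : ⁅γ, δ⁆ = ⁅α, γ⁆⁻¹ * ⁅α, β⁆⁻¹ := by
    rw [eδ, comm_mul_central_right hz1, hsplit]
    have h1 : ⁅γ, α⁆ = ⁅α, γ⁆⁻¹ := (commutatorElement_inv α γ).symm
    have h2 : ⁅γ, β⁆ = ⁅α, β⁆⁻¹ := by rw [← commutatorElement_inv β γ, hA]
    rw [h1, h2]
    have h3 := Subgroup.mem_center_iff.mp (Subgroup.inv_mem _ hf1) α
    rw [h3, mul_inv_cancel_right]
  have hf2' : ⁅α, γ⁆ = ⁅α, β⁆⁻¹ := by rw [← hB, hD]
  have hf1' : ⁅α, β⁆ = 1 := by
    have h := hC
    rw [hE, hf2', inv_inv, mul_inv_cancel] at h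
    exact h.symm
  have hαβ : α * β = β * α := commutatorElement_eq_one_iff_mul_comm.mp hf1'
  have hαγ : α * γ = γ * α :=
    commutatorElement_eq_one_iff_mul_comm.mp (by rw [hf2', hf1', inv_one])
  have hβγ : β * γ = γ * β := commutatorElement_eq_one_iff_mul_comm.mp (by rw [hA, hf1'])
  have hgen : ∀ u v : Y, u * v = v * u → ∀ y₁ y₂ : Y, τ y₁ = τ u → τ y₂ = τ v →
      y₁ * y₂ = y₂ * y₁ := by
    intro u v huv y₁ y₂ h1 h2
    have hz₁ : u⁻¹ * y₁ ∈ Subgroup.center Y := by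
      apply hc
      show τ _ = 1
      rw [map_mul, map_inv, h1, inv_mul_cancel]
    have hz₂ : v⁻¹ * y₂ ∈ Subgroup.center Y := by
      apply hc
      show τ _ = 1
      rw [map_mul, map_inv, h2, inv_mul_cancel]
    have e1 : y₁ = u * (u⁻¹ * y₁) := by group
    have e2 : y₂ = v * (v⁻¹ * y₂) := by group
    rw [← commutatorElement_eq_one_iff_mul_comm, e1, e2, comm_mul_central_left hz₁,
      comm_mul_central_right hz₂, commutatorElement_eq_one_iff_mul_comm]
    exact huv
  rcases h₁ with h₁ | h₁ | h₁ <;> rcases h₂ with h₂ | h₂ | h₂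
  · exact hgen α α rfl y₁ y₂ (by rw [h₁, hα]) (by rw [h₂, hα])
  · exact hgen α β hαβ y₁ y₂ (by rw [h₁, hα]) (by rw [h₂, hβ])
  · exact hgen α γ hαγ y₁ y₂ (by rw [h₁, hα]) (by rw [show τ y₂ = c from h₂, hγ])
  · exact hgen β α hαβ.symm y₁ y₂ (by rw [h₁, hβ]) (by rw [h₂, hα])
  · exact hgen β β rfl y₁ y₂ (by rw [h₁, hβ]) (by rw [h₂, hβ])
  · exact hgen β γ hβγ y₁ y₂ (by rw [h₁, hβ]) (by rw [show τ y₂ = c from h₂, hγ])
  · exact hgen γ α hαγ.symm y₁ y₂ (by rw [show τ y₁ = c from h₁, hγ]) (by rw [h₂, hα])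
  · exact hgen γ β hβγ.symm y₁ y₂ (by rw [show τ y₁ = c from h₁, hγ]) (by rw [h₂, hβ])
  · exact hgen γ γ rfl y₁ y₂ (by rw [show τ y₁ = c from h₁, hγ])
      (by rw [show τ y₂ = c from h₂, hγ])

/-- in a central extension of a group containing a Frobenius group `2³ : 7`, the commutator
subgroup of the preimage of `⟨a, b, c, t⟩` meets the kernel trivially -/
theorem c2cube_eq_one_of_mem_commutator (τ : Y →* G) (hτ : Function.Surjective τ)
    (hc : τ.ker ≤ Subgroup.center Y) (ha2 : a * a = 1) (hta : t * a = b * t)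
    (htb : t * b = c * t) (htc : t * c = a * b * t) (hab : a * b = b * a) (hac : a * c = c * a)
    (w : (Subgroup.closure ((Subgroup.closure ({a, b, c} : Set G) : Set G) ∪ {t})).comap τ)
    (hw : w ∈ commutator
      ((Subgroup.closure ((Subgroup.closure ({a, b, c} : Set G) : Set G) ∪ {t})).comap τ))
    (hw1 : τ (w : Y) = 1) : (w : Y) = 1 := by
  obtain ⟨θ, hθ⟩ := hτ t
  let T : Subgroup
      ((Subgroup.closure ((Subgroup.closure ({a, b, c} : Set G) : Set G) ∪ {t})).comap τ) :=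
    ((Subgroup.closure ({a, b, c} : Set G)).comap τ).subgroupOf _
  have hTmem : ∀ x, x ∈ T ↔ τ (x : Y) ∈ Subgroup.closure ({a, b, c} : Set G) :=
    fun x => Iff.rfl
  have hθK : θ ∈
      (Subgroup.closure ((Subgroup.closure ({a, b, c} : Set G) : Set G) ∪ {t})).comap τ := by
    rw [Subgroup.mem_comap, hθ]
    exact Subgroup.subset_closure (Set.mem_union_right _ (Set.mem_singleton t))
  have hdec := exists_mul_zpow_of_mem_closure (Subgroup.closure ({a, b, c} : Set G)) t
    (c2cube_conj_mem ha2 hta htb htc hab hac) (c2cube_conj_mem' ha2 hta htb htc hab hac)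
  obtain ⟨x, hx, hwx⟩ := exists_eq_comm_of_cyclic_ext T
    (by
      intro x hx y hy
      apply Subtype.ext
      exact comm_of_map_mem_closure τ hτ hc ({a, b, c} : Set G)
        (fun y₁ y₂ h₁ h₂ => c2cube_lift_comm τ hτ hc ha2 hta htb htc hab hac y₁ y₂ h₁ h₂) _ _
        ((hTmem x).mp hx) ((hTmem y).mp hy))
    ⟨θ, hθK⟩
    (by
      intro x hx
      rw [hTmem] at hx ⊢
      show τ (θ * (x : Y) * θ⁻¹) ∈ _
      rw [map_mul, map_mul, map_inv, hθ]
      exact c2cube_conj_mem ha2 hta htb htc hab hac _ hx)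
    (by
      intro x hx
      rw [hTmem] at hx ⊢
      show τ (θ⁻¹ * (x : Y) * θ) ∈ _
      rw [map_mul, map_mul, map_inv, hθ]
      exact c2cube_conj_mem' ha2 hta htb htc hab hac _ hx)
    (by
      intro h
      obtain ⟨p, hp, n, hn⟩ := hdec _ h.2
      refine ⟨h * (⟨θ, hθK⟩ : (Subgroup.closure
        ((Subgroup.closure ({a, b, c} : Set G) : Set G) ∪ {t})).comap τ) ^ (-n), ?_, n, ?_⟩
      · rw [hTmem, Subgroup.coe_mul, Subgroup.coe_zpow, map_mul, map_zpow, hθ, hn, mul_assoc,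
          ← zpow_add, add_neg_cancel, zpow_zero, mul_one]
        exact hp
      · group)
    w hw
  have hwx' : (w : Y) = ⁅(x : Y), θ⁆ := by
    have h := congrArg Subtype.val hwx
    rw [h]; rfl
  have hxP := (hTmem x).mp hx
  have h1 : ⁅τ (x : Y), τ θ⁆ = 1 := by
    rw [← map_commutatorElement, ← hwx', hw1]
  have h2 : t * τ (x : Y) = τ (x : Y) * t := by
    have h := (commutatorElement_eq_one_iff_mul_comm.mp h1).symm
    rw [hθ] at h
    exact h
  have h3 : τ (x : Y) = 1 := c2cube_fixed ha2 hta htb htc hab hac hxP h2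
  have h4 : (x : Y) ∈ Subgroup.center Y := hc h3
  rw [hwx', commutatorElement_eq_one_iff_mul_comm]
  exact (Subgroup.mem_center_iff.mp h4 θ).symm

/-- a Frobenius group `2³ : 7` containing a Sylow `2`-subgroup: the kernel of a stem extension
has odd exponent dividing the index -/
theorem stem_pow_eq_one_of_c2cube [Finite G] (τ : Y →* G) (hτ : Cfsg.IsStemExtension τ) {z : Y}
    (hz : z ∈ τ.ker) (ha2 : a * a = 1) (ha1 : a ≠ 1) (hta : t * a = b * t)
    (htb : t * b = c * t) (htc : t * c = a * b * t) (hab : a * b = b * a) (hac : a * c = c * a)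
    (n : ℕ) (hG : Nat.card G = 8 * n) : z ^ n = 1 := by
  have hidx := pow_index_eq_one_of_comap τ hτ.1 (hτ.2.1 hz) (hτ.2.2 hz) hz
    (Subgroup.closure ((Subgroup.closure ({a, b, c} : Set G) : Set G) ∪ {t}))
    (fun w hw hw1 =>
      c2cube_eq_one_of_mem_commutator τ hτ.1 hτ.2.1 ha2 hta htb htc hab hac w hw hw1)
  refine pow_eq_one_of_index _ hidx 8 n (by norm_num) hG ?_
  exact dvd_trans (c2cube_card ha2 hta htb htc hab hac ha1)
    (Subgroup.card_dvd_of_le (fun x hx => Subgroup.subset_closure (Set.mem_union_left _ hx)))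

/-- a group containing `2³ : 7` has order divisible by `8` -/
theorem eight_dvd_card_of_c2cube [Finite G] (ha2 : a * a = 1) (ha1 : a ≠ 1)
    (hta : t * a = b * t) (htb : t * b = c * t) (htc : t * c = a * b * t) (hab : a * b = b * a)
    (hac : a * c = c * a) : 8 ∣ Nat.card G :=
  dvd_trans (c2cube_card ha2 hta htb htc hab hac ha1) (Subgroup.card_subgroup_dvd_card _)

end C2CubeLift

end Cfsg.Agent.Lib.Helper35
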