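import Mathlib
import Cfsg.Prelude.Def_Spor_J1
import Cfsg.Agent.Lib.Helper60.J1.Ord
import Cfsg.Agent.Lib.Helper35.SchurLocal2

set_option autoImplicit false

/-! # The order of the matrix group `Cfsg.Spor.J1` and a Frobenius subgroup `2³ : 7` -/

namespace Cfsg.Agent.Lib.Helper35

open Cfsg.Agent.Lib.Helper60.J1 Cfsg.Spor

/-- the involution `X Y X Y⁴` (a diagonal matrix) -/
def jA : ℕ := 0xa000000010000000a00000001000000010000000a0000000a
/-- its conjugate by `X` -/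
def jB : ℕ := 0xa0000000a000000010000000a00000001000000010000000a
/-- its conjugate by `X²` -/
def jC : ℕ := 0xa0000000a0000000a000000010000000a0000000100000001
/-- the word `X Y X Y⁴` -/
def jAw : ℕ := mulP (mulP (mulP (mulP (mulP (mulP Xp Yp) Xp) Yp) Yp) Yp) Yp

theorem jA_sq : mulP jA jA = oneP := by decide +kernel
theorem jB_sq : mulP jB jB = oneP := by decide +kernel
theorem jC_sq : mulP jC jC = oneP := by decide +kernel
theorem jAw_eq : jAw = jA := by decide +kernel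
theorem jXA : mulP Xp jA = mulP jB Xp := by decide +kernel
theorem jXB : mulP Xp jB = mulP jC Xp := by decide +kernel
theorem jXC : mulP Xp jC = mulP (mulP jA jB) Xp := by decide +kernel
theorem jAB : mulP jA jB = mulP jB jA := by decide +kernel
theorem jAC : mulP jA jC = mulP jC jA := by decide +kernel

/-- the involution `a` -/
def j1a : GLm :=
  ⟨toMat jA, toMat jA, by rw [toMat_mul_eq jA_sq, toMat_oneP],
    by rw [toMat_mul_eq jA_sq, toMat_oneP]⟩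
/-- the involution `b = X a X⁻¹` -/
def j1b : GLm :=
  ⟨toMat jB, toMat jB, by rw [toMat_mul_eq jB_sq, toMat_oneP],
    by rw [toMat_mul_eq jB_sq, toMat_oneP]⟩
/-- the involution `c = X b X⁻¹` -/
def j1c : GLm :=
  ⟨toMat jC, toMat jC, by rw [toMat_mul_eq jC_sq, toMat_oneP],
    by rw [toMat_mul_eq jC_sq, toMat_oneP]⟩

theorem j1a_val : (j1a : Mat) = toMat jA := rfl
theorem j1b_val : (j1b : Mat) = toMat jB := rfl
theorem j1c_val : (j1c : Mat) = toMat jC := rfl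

theorem j1a_word : j1a = jankoX * jankoY * jankoX * jankoY * jankoY * jankoY * jankoY := by
  apply Units.ext
  rw [j1a_val, ← jAw_eq]
  simp only [jAw, Units.val_mul, jankoX_val, jankoY_val, toMat_mulP]

theorem j1a_mem : j1a ∈ J1 := by
  rw [j1a_word]
  exact Subgroup.mul_mem _ (Subgroup.mul_mem _ (Subgroup.mul_mem _ (Subgroup.mul_mem _
    (Subgroup.mul_mem _ (Subgroup.mul_mem _ jX_mem jY_mem) jX_mem) jY_mem) jY_mem) jY_mem) jY_mem

theorem j1_aa : j1a * j1a = 1 := by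
  apply Units.ext
  rw [Units.val_mul, j1a_val, toMat_mul_eq jA_sq, toMat_oneP, Units.val_one]

theorem j1_a_ne : j1a ≠ 1 := by
  have h := pow_ne_one_of j1a jA j1a_val 1 (pw1 jA) (toMat_pw1 jA) (by decide +kernel)
  rwa [pow_one] at h

theorem j1_ta : jankoX * j1a = j1b * jankoX := by
  apply Units.ext
  rw [Units.val_mul, Units.val_mul, j1a_val, j1b_val, jankoX_val, ← toMat_mulP, ← toMat_mulP, jXA]

theorem j1_tb : jankoX * j1b = j1c * jankoX := by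
  apply Units.ext
  rw [Units.val_mul, Units.val_mul, j1b_val, j1c_val, jankoX_val, ← toMat_mulP, ← toMat_mulP, jXB]

theorem j1_tc : jankoX * j1c = j1a * j1b * jankoX := by
  apply Units.ext
  rw [Units.val_mul, Units.val_mul, Units.val_mul, j1a_val, j1b_val, j1c_val, jankoX_val,
    ← toMat_mulP, ← toMat_mulP, ← toMat_mulP, jXC]

theorem j1_ab : j1a * j1b = j1b * j1a := by
  apply Units.ext
  rw [Units.val_mul, Units.val_mul, j1a_val, j1b_val, ← toMat_mulP, ← toMat_mulP, jAB]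

theorem j1_ac : j1a * j1c = j1c * j1a := by
  apply Units.ext
  rw [Units.val_mul, Units.val_mul, j1a_val, j1c_val, ← toMat_mulP, ← toMat_mulP, jAC]

theorem j1b_mem : j1b ∈ J1 := by
  have h : j1b = jankoX * j1a * jankoX⁻¹ := by rw [j1_ta]; group
  rw [h]
  exact Subgroup.mul_mem _ (Subgroup.mul_mem _ jX_mem j1a_mem) (Subgroup.inv_mem _ jX_mem)

theorem j1c_mem : j1c ∈ J1 := by
  have h : j1c = jankoX * j1b * jankoX⁻¹ := by rw [j1_tb]; group
  rw [h]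
  exact Subgroup.mul_mem _ (Subgroup.mul_mem _ jX_mem j1b_mem) (Subgroup.inv_mem _ jX_mem)

/-! the same relations in the subgroup `J1` -/

theorem j1s_aa : (⟨j1a, j1a_mem⟩ : ↥J1) * ⟨j1a, j1a_mem⟩ = 1 := Subtype.ext j1_aa

theorem j1s_ne : (⟨j1a, j1a_mem⟩ : ↥J1) ≠ 1 := fun h => j1_a_ne (congrArg Subtype.val h)

theorem j1s_ta : (⟨jankoX, jX_mem⟩ : ↥J1) * ⟨j1a, j1a_mem⟩ = ⟨j1b, j1b_mem⟩ * ⟨jankoX, jX_mem⟩ :=
  Subtype.ext j1_ta

theorem j1s_tb : (⟨jankoX, jX_mem⟩ : ↥J1) * ⟨j1b, j1b_mem⟩ = ⟨j1c, j1c_mem⟩ * ⟨jankoX, jX_mem⟩ :=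
  Subtype.ext j1_tb

theorem j1s_tc : (⟨jankoX, jX_mem⟩ : ↥J1) * ⟨j1c, j1c_mem⟩ =
    ⟨j1a, j1a_mem⟩ * ⟨j1b, j1b_mem⟩ * ⟨jankoX, jX_mem⟩ := Subtype.ext j1_tc

theorem j1s_ab : (⟨j1a, j1a_mem⟩ : ↥J1) * ⟨j1b, j1b_mem⟩ = ⟨j1b, j1b_mem⟩ * ⟨j1a, j1a_mem⟩ :=
  Subtype.ext j1_ab

theorem j1s_ac : (⟨j1a, j1a_mem⟩ : ↥J1) * ⟨j1c, j1c_mem⟩ = ⟨j1c, j1c_mem⟩ * ⟨j1a, j1a_mem⟩ :=
  Subtype.ext j1_ac

theorem card_J1_le : Nat.card ↥J1 ≤ 175560 := by
  have key : ∀ g : ↥J1, ∃ ij : Fin 266 × Fin 660,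
      ((g : GLm) : Mat) = toMat (getC ij.1) * toMat (getH ij.2) := by
    intro g
    obtain ⟨i, hi, h, hh, hg⟩ := J1_cosets g g.2
    obtain ⟨j, hj, hhj⟩ := Hs_sub h hh
    exact ⟨(⟨i, hi⟩, ⟨j, hj⟩), by rw [hg, hhj]⟩
  choose f hf using key
  have hinj : Function.Injective f := by
    intro g g' h
    apply Subtype.ext
    apply Units.ext
    rw [hf g, hf g', h]
  have h1 := Nat.card_le_card_of_injective f hinj
  rw [Nat.card_prod, Nat.card_fin, Nat.card_fin] at h1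
  exact h1

/-- the matrix group `J1` has order `175560` -/
theorem card_J1 : Nat.card ↥J1 = 175560 := by
  have h8 : 8 ∣ Nat.card ↥J1 :=
    eight_dvd_card_of_c2cube j1s_aa j1s_ne j1s_ta j1s_tb j1s_tc j1s_ab j1s_ac
  have hd : ∀ n ∈ [1, 2, 3, 5, 6, 7, 10, 11, 15, 19], n ∣ Nat.card ↥J1 := by
    intro n hn
    obtain ⟨g, hg⟩ := exists_orderOf n hn
    rw [← hg]
    exact orderOf_dvd_natCard g
  have h3 := hd 3 (by simp)
  have h5 := hd 5 (by simp)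
  have h7 := hd 7 (by simp)
  have h11 := hd 11 (by simp)
  have h19 := hd 19 (by simp)
  have d1 : 8 * 3 ∣ Nat.card ↥J1 := Nat.Coprime.mul_dvd_of_dvd_of_dvd (by norm_num) h8 h3
  have d2 : 8 * 3 * 5 ∣ Nat.card ↥J1 := Nat.Coprime.mul_dvd_of_dvd_of_dvd (by norm_num) d1 h5
  have d3 : 8 * 3 * 5 * 7 ∣ Nat.card ↥J1 :=
    Nat.Coprime.mul_dvd_of_dvd_of_dvd (by norm_num) d2 h7
  have d4 : 8 * 3 * 5 * 7 * 11 ∣ Nat.card ↥J1 :=
    Nat.Coprime.mul_dvd_of_dvd_of_dvd (by norm_num) d3 h11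
  have d5 : 8 * 3 * 5 * 7 * 11 * 19 ∣ Nat.card ↥J1 :=
    Nat.Coprime.mul_dvd_of_dvd_of_dvd (by norm_num) d4 h19
  obtain ⟨k, hk⟩ := d5
  have hk' : Nat.card ↥J1 = 175560 * k := by
    rw [hk]
  have hle := card_J1_le
  have hpos : 0 < Nat.card ↥J1 := Nat.card_pos
  rw [hk'] at hle hpos ⊢
  have hk1 : k = 1 := by
    clear h8 hd h3 h5 h7 h11 h19 d1 d2 d3 d4 hk hk'
    omega
  rw [hk1]

end Cfsg.Agent.Lib.Helper35
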