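import Mathlib
import Cfsg.Agent.Lib.Helper35.SLSym
import Cfsg.Agent.S2530

set_option autoImplicit false

namespace Cfsg.Agent.Lib.Helper35.SLn

open scoped commutatorElement
open Matrix

theorem pi_induction {κ : Type*} [Fintype κ] [DecidableEq κ] {M : Type*} [CommMonoid M]
    (p : (κ → M) → Prop) (hmul : ∀ a b, p a → p b → p (a * b)) (hone : p 1)
    (hbase : ∀ b (x : M), p (Pi.mulSingle b x)) (v : κ → M) : p v := by
  have := Finset.prod_induction (s := Finset.univ) (fun b => Pi.mulSingle b (v b)) p hmul hone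
    (fun b _ => hbase b (v b))
  rwa [Finset.univ_prod_mulSingle] at this

theorem ee_smul_apply {ι : Type*} [Fintype ι] [DecidableEq ι] {F : Type*} [Field F] {i j : ι}
    (hij : i ≠ j) (t : F) (v : ι → F) (a : ι) :
    (ee i j t • v) a = v a + if a = i then t * v j else 0 := by
  rw [ee_of_ne hij]
  change ((1 + single i j t) *ᵥ v) a = _
  rw [add_mulVec, one_mulVec, single_mulVec_eq]
  by_cases ha : a = i
  · subst ha; simp
  · simp [ha]

section UInj

variable {n : ℕ} {F : Type*} [Field F] {E : Type*} [Group E]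
  {τ : E →* Matrix.SpecialLinearGroup (Fin n) F} {X : Fin n → Fin n → F → E}

/-- the subgroup generated by the positive root elements in rows `≥ r` -/
def Drow (X : Fin n → Fin n → F → E) (r : ℕ) : Subgroup E :=
  Subgroup.closure {x | ∃ (i j : Fin n) (t : F), r ≤ i.val ∧ i < j ∧ x = X i j t}

/-- the subgroup generated by the positive root elements in row `i₀` -/
def Rrow (X : Fin n → Fin n → F → E) (i₀ : Fin n) : Subgroup E :=
  Subgroup.closure {x | ∃ (j : Fin n) (t : F), i₀ < j ∧ x = X i₀ j t}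

variable (hX : IsStein τ X)
include hX

theorem drow_fix (i₀ : Fin n) {d : E} (hd : d ∈ Drow X (i₀.val + 1)) (v : Fin n → F) :
    (τ d • v) i₀ = v i₀ := by
  unfold Drow at hd
  induction hd using Subgroup.closure_induction generalizing v with
  | mem x hx =>
    obtain ⟨i, j, t, hi, hij, rfl⟩ := hx
    have hne : i₀ ≠ i := by
      intro h; rw [h] at hi; omega
    rw [hX.map i j t (ne_of_lt hij), ee_smul_apply (ne_of_lt hij), if_neg hne, add_zero]
  | one => simp
  | mul x y _ _ hx hy => rw [map_mul, mul_smul, hx, hy]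
  | inv x _ hx =>
    have := hx (τ x⁻¹ • v)
    rw [map_inv, smul_inv_smul] at this
    rw [map_inv]; exact this.symm

theorem row_inj (i₀ : Fin n) {ρ : E} (hρ : ρ ∈ Rrow X i₀)
    (hfix : ∀ v : Fin n → F, (τ ρ • v) i₀ = v i₀) : ρ = 1 := by
  classical
  let φ : {b : Fin n // i₀ < b} → Multiplicative F →* E := fun b =>
    MonoidHom.mk' (fun t => X i₀ b.1 (Multiplicative.toAdd t))
      (fun s t => by rw [toAdd_mul, hX.add _ _ _ _ (ne_of_lt b.2)])
  have hcomm : Pairwise fun b b' : {b : Fin n // i₀ < b} =>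
      ∀ x y, Commute (φ b x) (φ b' y) := fun b b' _ x y =>
    hX.commute i₀ b.1 i₀ b'.1 _ _ (ne_of_lt b.2) (ne_of_lt b'.2) (ne_of_gt b.2) (ne_of_lt b'.2)
  obtain ⟨ρh, hρh⟩ : ∃ ρh : ({b : Fin n // i₀ < b} → Multiplicative F) →* E,
      ρh = MonoidHom.noncommPiCoprod φ hcomm := ⟨_, rfl⟩
  have hsingle : ∀ (b : {b : Fin n // i₀ < b}) (x : Multiplicative F),
      ρh (Pi.mulSingle b x) = X i₀ b.1 (Multiplicative.toAdd x) := by
    intro b x
    rw [hρh, MonoidHom.noncommPiCoprod_mulSingle]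
    rfl
  have hR : Rrow X i₀ ≤ ρh.range := by
    unfold Rrow
    rw [Subgroup.closure_le]
    rintro x ⟨j, t, hj, rfl⟩
    exact ⟨Pi.mulSingle ⟨j, hj⟩ (Multiplicative.ofAdd t), by rw [hsingle]; rfl⟩
  obtain ⟨v, rfl⟩ := hR hρ
  have hact : ∀ v : {b : Fin n // i₀ < b} → Multiplicative F, ∀ b' : Fin n,
      τ (ρh v) • (Pi.single b' 1 : Fin n → F) = Pi.single b' 1 +
        (if h : i₀ < b' then Multiplicative.toAdd (v ⟨b', h⟩) else 0) • Pi.single i₀ 1 := by
    intro v
    refine pi_induction (fun v => ∀ b' : Fin n,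
      τ (ρh v) • (Pi.single b' 1 : Fin n → F) = Pi.single b' 1 +
        (if h : i₀ < b' then Multiplicative.toAdd (v ⟨b', h⟩) else 0) • Pi.single i₀ 1)
      ?_ ?_ ?_ v
    · intro v v' h h' b'
      have h0 := h i₀
      rw [dif_neg (lt_irrefl _), zero_smul, add_zero] at h0
      rw [map_mul, map_mul, mul_smul, h' b', smul_add, h b', smul_comm, h0, add_assoc, ← add_smul]
      congr 2
      by_cases hb : i₀ < b'
      · simp [hb, toAdd_mul]
      · simp [hb]
    · intro b'; simp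
    · intro b x b'
      rw [hsingle, hX.map _ _ _ (ne_of_lt b.2), ee_smul (ne_of_lt b.2)]
      congr 1
      by_cases hb : b' = b.1
      · subst hb
        simp [b.2]
      · have hb' : ∀ h : i₀ < b', (⟨b', h⟩ : {b : Fin n // i₀ < b}) ≠ b := by
          intro h h'
          apply hb
          rw [← h']
        by_cases hlt : i₀ < b'
        · simp [hb, hlt, Pi.mulSingle_apply, hb' hlt]
        · simp [hb, hlt]
  have hv : v = 1 := by
    funext b
    have h1 := hfix (Pi.single b.1 1)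
    rw [hact v b.1, dif_pos b.2] at h1
    have hne : i₀ ≠ b.1 := ne_of_lt b.2
    simp [Pi.single_apply, hne] at h1
    exact h1
  rw [hv, map_one]

theorem conj_mem_rrow {i₀ i j : Fin n} (hi : i₀ < i) (hij : i < j) (t : F) {ρ : E}
    (hρ : ρ ∈ Rrow X i₀) : X i j t * ρ * (X i j t)⁻¹ ∈ Rrow X i₀ := by
  unfold Rrow at hρ ⊢
  induction hρ using Subgroup.closure_induction with
  | mem x hx =>
    obtain ⟨l, s, hl, rfl⟩ := hx
    by_cases hli : l = i
    · subst hli
      have h1 := hX.comm i₀ l j s t (ne_of_lt hi) (ne_of_lt hij) (ne_of_lt (hi.trans hij))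
      have h2 : X l j t * X i₀ l s * (X l j t)⁻¹ = (X i₀ j (s * t))⁻¹ * X i₀ l s := by
        rw [← h1, commutatorElement_def]; group
      rw [h2]
      exact mul_mem (inv_mem (Subgroup.subset_closure ⟨j, _, hi.trans hij, rfl⟩))
        (Subgroup.subset_closure ⟨l, _, hl, rfl⟩)
    · have h1 := hX.commute i₀ l i j s t (ne_of_lt hl) (ne_of_lt hij) hli
        (ne_of_lt (hi.trans hij))
      rw [← h1.eq, mul_inv_cancel_right]
      exact Subgroup.subset_closure ⟨l, _, hl, rfl⟩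
  | one => simp
  | mul x y _ _ hx hy =>
    have : X i j t * (x * y) * (X i j t)⁻¹ =
        (X i j t * x * (X i j t)⁻¹) * (X i j t * y * (X i j t)⁻¹) := by group
    rw [this]; exact mul_mem hx hy
  | inv x _ hx =>
    have : X i j t * x⁻¹ * (X i j t)⁻¹ = (X i j t * x * (X i j t)⁻¹)⁻¹ := by group
    rw [this]; exact inv_mem hx

theorem drow_decomp (i₀ : Fin n) {u : E} (hu : u ∈ Drow X i₀.val) :
    ∃ d ∈ Drow X (i₀.val + 1), ∃ ρ ∈ Rrow X i₀, u = d * ρ := by
  have hgen : ∀ (x : E), x ∈ {x | ∃ (i j : Fin n) (t : F), i₀.val ≤ i.val ∧ i < j ∧ x = X i j t} →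
      ∀ d ∈ Drow X (i₀.val + 1), ∀ ρ ∈ Rrow X i₀,
      ∃ d' ∈ Drow X (i₀.val + 1), ∃ ρ' ∈ Rrow X i₀, d * ρ * x = d' * ρ' := by
    rintro x ⟨i, j, t, hi, hij, rfl⟩ d hd ρ hρ
    by_cases hii : i = i₀
    · subst hii
      exact ⟨d, hd, ρ * X i j t, mul_mem hρ (Subgroup.subset_closure ⟨j, t, hij, rfl⟩),
        by group⟩
    · have hlt : i₀ < i := lt_of_le_of_ne hi (Ne.symm hii)
      refine ⟨d * X i j t, mul_mem hd (Subgroup.subset_closure ⟨i, j, t, hlt, hij, rfl⟩),
        X i j (-t) * ρ * (X i j (-t))⁻¹, conj_mem_rrow hX hlt hij (-t) hρ, ?_⟩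
      rw [hX.neg (ne_of_lt hij)]
      group
  unfold Drow at hu
  induction hu using Subgroup.closure_induction_right with
  | one => exact ⟨1, one_mem _, 1, one_mem _, by simp⟩
  | mul_right x _ y hy ih =>
    obtain ⟨d, hd, ρ, hρ, rfl⟩ := ih
    exact hgen y hy d hd ρ hρ
  | mul_inv_cancel x _ y hy ih =>
    obtain ⟨d, hd, ρ, hρ, rfl⟩ := ih
    obtain ⟨i, j, t, hi, hij, rfl⟩ := hy
    refine hgen (X i j t)⁻¹ ⟨i, j, -t, hi, hij, ?_⟩ d hd ρ hρ
    rw [hX.neg (ne_of_lt hij)]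

theorem drow_inj : ∀ (k r : ℕ), n ≤ r + k → ∀ u ∈ Drow X r, τ u = 1 → u = 1 := by
  intro k
  induction k with
  | zero =>
    intro r hr u hu _
    have hempty : {x | ∃ (i j : Fin n) (t : F), r ≤ i.val ∧ i < j ∧ x = X i j t} = (∅ : Set E) := by
      ext x
      simp only [Set.mem_setOf_eq, Set.mem_empty_iff_false, iff_false]
      rintro ⟨i, j, t, hi, -, -⟩
      have := i.2
      omega
    unfold Drow at hu
    rw [hempty, Subgroup.closure_empty] at hu
    exact Subgroup.mem_bot.1 hu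
  | succ k ih =>
    intro r hr u hu hτ
    by_cases hrn : n ≤ r
    · exact ih r (by omega) u hu hτ
    · have hu' : u ∈ Drow X (⟨r, by omega⟩ : Fin n).val := hu
      obtain ⟨d, hd, ρ, hρ, rfl⟩ := drow_decomp hX ⟨r, by omega⟩ hu'
      have hρ1 : ρ = 1 := by
        apply row_inj hX ⟨r, by omega⟩ hρ
        intro v
        have h1 := drow_fix hX ⟨r, by omega⟩ hd (τ ρ • v)
        rw [← mul_smul, ← map_mul, hτ, one_smul] at h1
        exact h1.symm
      rw [hρ1, mul_one] at hτ ⊢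
      exact ih (r + 1) (by omega) d hd hτ

end UInj

theorem cox3 {G : Type*} [Group G] (a b : G) (ha : a * a = 1) (hb : b * b = 1)
    (h : a * b * a = b * a * b) : (a * b) ^ 3 = 1 := by
  calc (a * b) ^ 3 = a * b * a * (b * a * b) := by
        rw [pow_succ, pow_two]; simp only [mul_assoc]
    _ = a * b * a * (a * b * a) := by rw [h]
    _ = a * b * (a * a) * b * a := by group
    _ = a * (b * b) * a := by rw [ha]; group
    _ = 1 := by rw [hb, mul_one, ha]

theorem cox2 {G : Type*} [Group G] (a b : G) (ha : a * a = 1) (hb : b * b = 1)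
    (h : Commute a b) : (a * b) ^ 2 = 1 := by
  calc (a * b) ^ 2 = a * (b * a) * b := by rw [pow_two]; simp only [mul_assoc]
    _ = a * (a * b) * b := by rw [h.eq]
    _ = (a * a) * (b * b) := by group
    _ = 1 := by rw [ha, hb, mul_one]

theorem cs_ne {m : ℕ} (k : Fin m) : k.castSucc ≠ k.succ := (Fin.castSucc_lt_succ).ne

section WInj

variable {m : ℕ} {F : Type*} [Field F] [Fintype F] {E : Type*} [Group E]
  {τ : E →* Matrix.SpecialLinearGroup (Fin (m + 1)) F} {X : Fin (m + 1) → Fin (m + 1) → F → E}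

/-- the lifted torus -/
def HH (X : Fin (m + 1) → Fin (m + 1) → F → E) : Subgroup E :=
  Subgroup.closure {x | ∃ (i j : Fin (m + 1)) (u : F), i ≠ j ∧ u ≠ 0 ∧ x = hh X i j u}

/-- the simple Weyl lifts -/
def nn (X : Fin (m + 1) → Fin (m + 1) → F → E) (k : Fin m) : E := ww X k.castSucc k.succ 1

/-- the lifted monomial group -/
def WW (X : Fin (m + 1) → Fin (m + 1) → F → E) : Subgroup E :=
  Subgroup.closure ((HH X : Set E) ∪ Set.range (nn X))

variable (hX : IsStein τ X) (hK : τ.ker ≤ Subgroup.center E) (hm : 2 ≤ m)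
include hX hK hm

omit [Fintype F] hX hK in
theorem card_fin_ge : 3 ≤ Fintype.card (Fin (m + 1)) := by
  rw [Fintype.card_fin]; omega

theorem conj_mem_HH {e : E} {π : Equiv.Perm (Fin (m + 1))} {d : Fin (m + 1) → F}
    (hmono : IsMono (τ e) π d) {x : E} (hx : x ∈ HH X) : e * x * e⁻¹ ∈ HH X := by
  unfold HH at hx ⊢
  induction hx using Subgroup.closure_induction with
  | mem x hx =>
    obtain ⟨i, j, u, hij, hu, rfl⟩ := hx
    rw [hh_conj' hX hK (card_fin_ge hm) hmono hij hu]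
    exact Subgroup.subset_closure ⟨π i, π j, u, fun h => hij (π.injective h), hu, rfl⟩
  | one => simp
  | mul x y _ _ hx hy =>
    have : e * (x * y) * e⁻¹ = (e * x * e⁻¹) * (e * y * e⁻¹) := by group
    rw [this]; exact mul_mem hx hy
  | inv x _ hx =>
    have : e * x⁻¹ * e⁻¹ = (e * x * e⁻¹)⁻¹ := by group
    rw [this]; exact inv_mem hx

theorem HH_mono {x : E} (hx : x ∈ HH X) : ∃ d, IsMono (τ x) 1 d := by
  unfold HH at hx
  induction hx using Subgroup.closure_induction with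
  | mem x hx =>
    obtain ⟨i, j, u, hij, hu, rfl⟩ := hx
    exact ⟨_, isMono_hh hX hij hu⟩
  | one => exact ⟨_, by rw [map_one]; exact IsMono.one⟩
  | mul x y _ _ hx hy =>
    obtain ⟨d, hd⟩ := hx
    obtain ⟨d', hd'⟩ := hy
    exact ⟨_, by rw [map_mul]; exact (hd.mul hd').congr (by simp) (fun _ => rfl)⟩
  | inv x _ hx =>
    obtain ⟨d, hd⟩ := hx
    exact ⟨_, by rw [map_inv]; exact hd.inv.congr (by simp) (fun _ => rfl)⟩

theorem HH_inj {x : E} (hx : x ∈ HH X) (hτ : τ x = 1) : x = 1 := by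
  classical
  have hn := card_fin_ge hm
  have h0 : ∀ j : {j : Fin (m + 1) // j ≠ 0}, (0 : Fin (m + 1)) ≠ j.1 := fun j => j.2.symm
  let φ : {j : Fin (m + 1) // j ≠ 0} → Fˣ →* E := fun j =>
    MonoidHom.mk' (fun u => hh X 0 j.1 (u : F)) (fun u v => by
      obtain ⟨k, hk1, hk2⟩ := exists_ne2 hn 0 j.1
      rw [Units.val_mul]
      exact hh_mul hX hK (h0 j) hk1.symm hk2.symm u.ne_zero v.ne_zero)
  have hcomm : Pairwise fun j l : {j : Fin (m + 1) // j ≠ 0} =>
      ∀ x y, Commute (φ j x) (φ l y) := by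
    intro j l _ x y
    have h1 := hh_conj' hX hK hn (isMono_hh hX (h0 j) x.ne_zero) (h0 l) y.ne_zero
    rw [Equiv.Perm.one_apply, Equiv.Perm.one_apply] at h1
    exact mul_inv_eq_iff_eq_mul.1 h1
  obtain ⟨η, hη⟩ : ∃ η : ({j : Fin (m + 1) // j ≠ 0} → Fˣ) →* E,
      η = MonoidHom.noncommPiCoprod φ hcomm := ⟨_, rfl⟩
  have hsingle : ∀ (j : {j : Fin (m + 1) // j ≠ 0}) (u : Fˣ),
      η (Pi.mulSingle j u) = hh X 0 j.1 (u : F) := by
    intro j u
    rw [hη, MonoidHom.noncommPiCoprod_mulSingle]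
    rfl
  have hR : HH X ≤ η.range := by
    unfold HH
    rw [Subgroup.closure_le]
    rintro x ⟨i, j, u, hij, hu, rfl⟩
    have hmem : ∀ (l : Fin (m + 1)) (hl : l ≠ 0), hh X 0 l u ∈ η.range := fun l hl =>
      ⟨Pi.mulSingle ⟨l, hl⟩ (Units.mk0 u hu), by rw [hsingle]; rfl⟩
    by_cases hi : i = 0
    · subst hi
      exact hmem j hij.symm
    · by_cases hj : j = 0
      · subst hj
        rw [hh_symm hX hK hn (Ne.symm hi) hu]
        exact inv_mem (hmem i hi)
      · rw [hh_trans hX hK hi hij (Ne.symm hj) hu, hh_symm hX hK hn (Ne.symm hi) hu]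
        exact mul_mem (inv_mem (hmem i hi)) (hmem j hj)
  obtain ⟨v, rfl⟩ := hR hx
  have hact : ∀ v : {j : Fin (m + 1) // j ≠ 0} → Fˣ, ∃ d, IsMono (τ (η v)) 1 d ∧
      ∀ j : {j : Fin (m + 1) // j ≠ 0}, d j.1 = ((v j : Fˣ) : F)⁻¹ := by
    intro v
    refine pi_induction (fun v => ∃ d, IsMono (τ (η v)) 1 d ∧
      ∀ j : {j : Fin (m + 1) // j ≠ 0}, d j.1 = ((v j : Fˣ) : F)⁻¹) ?_ ?_ ?_ v
    · rintro v v' ⟨d, hd, hd2⟩ ⟨d', hd', hd2'⟩
      refine ⟨_, by rw [map_mul, map_mul]; exact (hd.mul hd').congr (by simp) (fun _ => rfl), ?_⟩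
      intro j
      simp only [Equiv.Perm.one_apply, Pi.mul_apply, Units.val_mul]
      rw [hd2, hd2', mul_inv, mul_comm]
    · exact ⟨_, by rw [map_one, map_one]; exact IsMono.one, by simp⟩
    · intro j u
      refine ⟨_, by rw [hsingle]; exact isMono_hh hX (h0 j) u.ne_zero, ?_⟩
      intro l
      by_cases hl : l = j
      · subst hl
        simp [dH, l.2]
      · have hl' : l.1 ≠ j.1 := fun h => hl (Subtype.ext h)
        simp [dH, l.2, hl', Pi.mulSingle_apply, hl]
  obtain ⟨d, hd, hd2⟩ := hact v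
  rw [hτ] at hd
  have hv : v = 1 := by
    funext j
    have h1 := IsMono.coeff_eq hd IsMono.one j.1
    rw [hd2] at h1
    have h2 : ((v j : Fˣ) : F) = 1 := by rw [← inv_inv ((v j : Fˣ) : F), h1, inv_one]
    exact Units.ext h2
  rw [hv, map_one]

theorem WW_mono {w : E} (hw : w ∈ WW X) : ∃ π d, IsMono (τ w) π d := by
  unfold WW at hw
  induction hw using Subgroup.closure_induction with
  | mem x hx =>
    rcases hx with hx | ⟨k, rfl⟩
    · obtain ⟨d, hd⟩ := HH_mono hX hK hm hx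
      exact ⟨1, d, hd⟩
    · exact ⟨_, _, isMono_ww hX (cs_ne k) one_ne_zero⟩
  | one => exact ⟨1, _, by rw [map_one]; exact IsMono.one⟩
  | mul x y _ _ hx hy =>
    obtain ⟨π, d, hd⟩ := hx
    obtain ⟨π', d', hd'⟩ := hy
    exact ⟨_, _, by rw [map_mul]; exact hd.mul hd'⟩
  | inv x _ hx =>
    obtain ⟨π, d, hd⟩ := hx
    exact ⟨_, _, by rw [map_inv]; exact hd.inv⟩

theorem nn_sq (k : Fin m) : nn X k * nn X k ∈ HH X := by
  have h1 : nn X k * nn X k = (hh X k.castSucc k.succ (-1))⁻¹ := by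
    unfold nn hh
    rw [ww_neg hX (cs_ne k) 1, _root_.mul_inv_rev, inv_inv]
  rw [h1]
  exact inv_mem (Subgroup.subset_closure ⟨_, _, -1, cs_ne k, by simp, rfl⟩)

theorem nn_mem_normalizer (k : Fin m) : nn X k ∈ (Subgroup.normalizer (HH X : Set E)) := by
  rw [Subgroup.mem_normalizer_iff]
  intro x
  have hmono : IsMono (τ (nn X k)) _ _ := isMono_ww hX (cs_ne k) (u := 1) one_ne_zero
  constructor
  · exact conj_mem_HH hX hK hm hmono
  · intro h
    have := conj_mem_HH hX hK hm (e := (nn X k)⁻¹) (by rw [map_inv]; exact hmono.inv) h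
    have e : (nn X k)⁻¹ * (nn X k * x * (nn X k)⁻¹) * (nn X k)⁻¹⁻¹ = x := by group
    rwa [e] at this

theorem nn_commute {k l : Fin m} (h : k.val + 1 < l.val) : Commute (nn X k) (nn X l) := by
  have hmono : IsMono (τ (nn X k)) _ _ := isMono_ww hX (cs_ne k) (u := 1) one_ne_zero
  have h1 := ww_conj hX hmono (cs_ne l) (u := 1) one_ne_zero
  have hc1 : l.castSucc ≠ k.castSucc := by
    intro h'; rw [Fin.ext_iff] at h'; simp at h'; omega
  have hc2 : l.castSucc ≠ k.succ := by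
    intro h'; rw [Fin.ext_iff] at h'; simp at h'; omega
  have hd1 : l.succ ≠ k.castSucc := by
    intro h'; rw [Fin.ext_iff] at h'; simp at h'; omega
  have hd2 : l.succ ≠ k.succ := by
    intro h'; rw [Fin.ext_iff] at h'; simp at h'; omega
  rw [Equiv.swap_apply_of_ne_of_ne hc1 hc2, Equiv.swap_apply_of_ne_of_ne hd1 hd2] at h1
  have hcoef : dW k.castSucc k.succ (1 : F) l.castSucc *
      (dW k.castSucc k.succ (1 : F) l.succ)⁻¹ * 1 = 1 := by
    simp [dW, hc1, hc2, hd1, hd2]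
  rw [hcoef] at h1
  exact mul_inv_eq_iff_eq_mul.1 h1

theorem nn_braid {k l : Fin m} (h : k.val + 1 = l.val) :
    nn X k * nn X l * (nn X k)⁻¹ = nn X l * (nn X k)⁻¹ * (nn X l)⁻¹ := by
  have hb : l.castSucc = k.succ := by
    rw [Fin.ext_iff]; simp; omega
  have hac : k.castSucc ≠ l.succ := by
    intro h'; rw [Fin.ext_iff] at h'; simp at h'; omega
  have hbc : k.succ ≠ l.succ := by
    intro h'; rw [Fin.ext_iff] at h'; simp at h'; omega
  have hab := cs_ne k
  have hnl : nn X l = ww X k.succ l.succ 1 := by unfold nn; rw [hb]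
  have hmk : IsMono (τ (nn X k)) _ _ := isMono_ww hX hab (u := 1) one_ne_zero
  have hml : IsMono (τ (ww X k.succ l.succ 1)) _ _ := isMono_ww hX hbc (u := 1) one_ne_zero
  have h1 := ww_conj hX hmk hbc (u := 1) one_ne_zero
  rw [Equiv.swap_apply_right, Equiv.swap_apply_of_ne_of_ne hac.symm hbc.symm] at h1
  have hcoef1 : dW k.castSucc k.succ (1 : F) k.succ *
      (dW k.castSucc k.succ (1 : F) l.succ)⁻¹ * 1 = 1 := by
    simp [dW, hab.symm, hac.symm, hbc.symm]
  rw [hcoef1] at h1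
  have h2 := ww_conj hX hml hab (u := 1) one_ne_zero
  rw [Equiv.swap_apply_of_ne_of_ne hab hac, Equiv.swap_apply_left] at h2
  have hcoef2 : dW k.succ l.succ (1 : F) k.castSucc *
      (dW k.succ l.succ (1 : F) k.succ)⁻¹ * 1 = -1 := by
    simp [dW, hab, hac]
  rw [hcoef2, ww_neg hX hac] at h2
  have h3 : nn X l * (nn X k)⁻¹ * (nn X l)⁻¹ = (nn X l * nn X k * (nn X l)⁻¹)⁻¹ := by group
  have h4 : nn X k = ww X k.castSucc k.succ 1 := rfl
  rw [h3, hnl, h1, h4, h2, inv_inv]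

theorem prod_nn_mono (cs : CoxeterSystem (CoxeterMatrix.A m) (Equiv.Perm (Fin (m + 1))))
    (hcs : ∀ i : Fin m, cs.simple i = Equiv.swap i.castSucc i.succ) (ω : List (Fin m)) :
    ∃ d, IsMono (τ (ω.map (nn X)).prod) (cs.wordProd ω) d := by
  induction ω with
  | nil => exact ⟨_, by simp only [List.map_nil, List.prod_nil, map_one,
      CoxeterSystem.wordProd_nil]; exact IsMono.one⟩
  | cons k ω ih =>
    obtain ⟨d, hd⟩ := ih
    have hmk : IsMono (τ (nn X k)) _ _ := isMono_ww hX (cs_ne k) (u := 1) one_ne_zero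
    have h := hmk.mul hd
    rw [← map_mul, ← List.prod_cons, ← List.map_cons, ← hcs k,
      ← CoxeterSystem.wordProd_cons] at h
    exact ⟨_, h⟩

theorem prod_nn_mem_HH (cs : CoxeterSystem (CoxeterMatrix.A m) (Equiv.Perm (Fin (m + 1))))
    (ω : List (Fin m)) (hω : cs.wordProd ω = 1) : (ω.map (nn X)).prod ∈ HH X := by
  have hnn := nn_mem_normalizer hX hK hm
  obtain ⟨ψ, hψ⟩ : ∃ ψ : ↥(Subgroup.normalizer (HH X : Set E)) →*
      ↥(Subgroup.normalizer (HH X : Set E)) ⧸ (HH X).subgroupOf (Subgroup.normalizer (HH X : Set E)),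
      ψ = QuotientGroup.mk' _ := ⟨_, rfl⟩
  have hker : ∀ y : ↥(Subgroup.normalizer (HH X : Set E)), ψ y = 1 ↔ (y : E) ∈ HH X := by
    intro y
    rw [hψ, QuotientGroup.mk'_apply, QuotientGroup.eq_one_iff, Subgroup.mem_subgroupOf]
  obtain ⟨f, hf⟩ : ∃ f : Fin m → ↥(Subgroup.normalizer (HH X : Set E)) ⧸ (HH X).subgroupOf (Subgroup.normalizer (HH X : Set E)),
      f = fun k => ψ ⟨nn X k, hnn k⟩ := ⟨_, rfl⟩
  have hsq : ∀ k, f k * f k = 1 := by
    intro k
    rw [hf]
    simp only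
    rw [← map_mul, hker]
    exact nn_sq hX hK hm k
  have hcomm : ∀ k l : Fin m, k.val + 1 < l.val → Commute (f k) (f l) := by
    intro k l h
    rw [hf]
    simp only
    have : (⟨nn X k, hnn k⟩ : ↥(Subgroup.normalizer (HH X : Set E))) * ⟨nn X l, hnn l⟩ =
        ⟨nn X l, hnn l⟩ * ⟨nn X k, hnn k⟩ := Subtype.ext (nn_commute hX hK hm h).eq
    unfold Commute SemiconjBy
    rw [← map_mul, ← map_mul, this]
  have hbraid : ∀ k l : Fin m, k.val + 1 = l.val → f k * f l * f k = f l * f k * f l := by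
    intro k l h
    have h1 : (⟨nn X k, hnn k⟩ : ↥(Subgroup.normalizer (HH X : Set E))) * ⟨nn X l, hnn l⟩ * ⟨nn X k, hnn k⟩⁻¹ =
        ⟨nn X l, hnn l⟩ * ⟨nn X k, hnn k⟩⁻¹ * ⟨nn X l, hnn l⟩⁻¹ :=
      Subtype.ext (nn_braid hX hK hm h)
    have h2 := congrArg ψ h1
    rw [map_mul, map_mul, map_mul, map_mul, map_inv, map_inv] at h2
    have hk' : (f k)⁻¹ = f k := inv_eq_of_mul_eq_one_left (hsq k)
    have hl' : (f l)⁻¹ = f l := inv_eq_of_mul_eq_one_left (hsq l)
    have e1 : ψ ⟨nn X k, hnn k⟩ = f k := by rw [hf]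
    have e2 : ψ ⟨nn X l, hnn l⟩ = f l := by rw [hf]
    rw [e1, e2, hk', hl'] at h2
    exact h2
  have hlift : (CoxeterMatrix.A m).IsLiftable f := by
    intro i j
    have hM : (CoxeterMatrix.A m) i j = if i = j then 1 else
        (if (j : ℕ) + 1 = i ∨ (i : ℕ) + 1 = j then 3 else 2) := rfl
    rw [hM]
    split_ifs with h1 h2
    · subst h1
      rw [pow_one]
      exact hsq i
    · rcases h2 with h2 | h2
      · have := cox3 (f j) (f i) (hsq j) (hsq i) (hbraid j i h2)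
        exact cox3 (f i) (f j) (hsq i) (hsq j) (hbraid j i h2).symm
      · exact cox3 (f i) (f j) (hsq i) (hsq j) (hbraid i j h2)
    · have hij : (i : ℕ) ≠ j := fun h => h1 (Fin.ext h)
      rw [not_or] at h2
      rcases Nat.lt_or_gt_of_ne hij with h3 | h3
      · exact cox2 _ _ (hsq i) (hsq j) (hcomm i j (by omega))
      · exact cox2 _ _ (hsq i) (hsq j) (hcomm j i (by omega)).symm
  obtain ⟨θ, hθ⟩ : ∃ θ : Equiv.Perm (Fin (m + 1)) →*
      ↥(Subgroup.normalizer (HH X : Set E)) ⧸ (HH X).subgroupOf (Subgroup.normalizer (HH X : Set E)),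
      θ = cs.lift ⟨f, hlift⟩ := ⟨_, rfl⟩
  have hθs : ∀ k, θ (cs.simple k) = f k := by
    intro k; rw [hθ]; exact cs.lift_apply_simple hlift k
  have key : ∀ ω : List (Fin m), ∃ hmem : (ω.map (nn X)).prod ∈ (Subgroup.normalizer (HH X : Set E)),
      θ (cs.wordProd ω) = ψ ⟨(ω.map (nn X)).prod, hmem⟩ := by
    intro ω
    induction ω with
    | nil =>
      refine ⟨by simp only [List.map_nil, List.prod_nil]; exact one_mem _, ?_⟩
      rw [CoxeterSystem.wordProd_nil, map_one]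
      symm
      rw [hker]
      simp only [List.map_nil, List.prod_nil]
      exact one_mem _
    | cons k ω ih =>
      obtain ⟨hmem, ih⟩ := ih
      refine ⟨by rw [List.map_cons, List.prod_cons]; exact mul_mem (hnn k) hmem, ?_⟩
      rw [CoxeterSystem.wordProd_cons, map_mul, hθs, ih, hf]
      simp only
      rw [← map_mul]
      congr 1
  obtain ⟨hmem, h1⟩ := key ω
  rw [hω, map_one] at h1
  exact (hker _).1 h1.symm

theorem nf_mul_HH (ω : List (Fin m)) {x g : E} (hx : x ∈ HH X) (hg : g ∈ HH X) :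
    ∃ x' ∈ HH X, g * ((ω.map (nn X)).prod * x) = (ω.map (nn X)).prod * x' := by
  obtain ⟨cs, hcs⟩ := Cfsg.Agent.S2530.result m
  obtain ⟨d, hd⟩ := prod_nn_mono hX hK hm cs hcs ω
  have h1 := conj_mem_HH hX hK hm (e := ((ω.map (nn X)).prod)⁻¹) (by rw [map_inv]; exact hd.inv) hg
  exact ⟨_, mul_mem h1 hx, by group⟩

theorem WW_normal_form {w : E} (hw : w ∈ WW X) :
    ∃ ω : List (Fin m), ∃ x ∈ HH X, w = (ω.map (nn X)).prod * x := by
  unfold WW at hw
  induction hw using Subgroup.closure_induction_left with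
  | one => exact ⟨[], 1, one_mem _, by simp⟩
  | mul_left g hg y _ ih =>
    obtain ⟨ω, x, hx, rfl⟩ := ih
    rcases hg with hg | ⟨k, rfl⟩
    · obtain ⟨x', hx', h⟩ := nf_mul_HH hX hK hm ω hx hg
      exact ⟨ω, x', hx', h⟩
    · exact ⟨k :: ω, x, hx, by rw [List.map_cons, List.prod_cons, mul_assoc]⟩
  | inv_mul_cancel g hg y _ ih =>
    obtain ⟨ω, x, hx, rfl⟩ := ih
    rcases hg with hg | ⟨k, rfl⟩
    · obtain ⟨x', hx', h⟩ := nf_mul_HH hX hK hm ω hx (inv_mem hg)
      exact ⟨ω, x', hx', h⟩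
    · obtain ⟨x', hx', h⟩ := nf_mul_HH hX hK hm (k :: ω) hx (inv_mem (nn_sq hX hK hm k))
      refine ⟨k :: ω, x', hx', ?_⟩
      rw [← h, List.map_cons, List.prod_cons]
      group

theorem WW_inj {w : E} (hw : w ∈ WW X) (hτ : τ w = 1) : w = 1 := by
  obtain ⟨cs, hcs⟩ := Cfsg.Agent.S2530.result m
  obtain ⟨ω, x, hx, rfl⟩ := WW_normal_form hX hK hm hw
  obtain ⟨d, hd⟩ := prod_nn_mono hX hK hm cs hcs ω
  obtain ⟨d', hd'⟩ := HH_mono hX hK hm hx
  have h1 := hd.mul hd'
  rw [← map_mul, hτ] at h1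
  have h2 : cs.wordProd ω * 1 = 1 := h1.perm_eq IsMono.one
  rw [mul_one] at h2
  have h3 := prod_nn_mem_HH hX hK hm cs ω h2
  exact HH_inj hX hK hm (mul_mem h3 hx) hτ

end WInj

section Bruhat

variable {m : ℕ} {F : Type*} [Field F] [Fintype F] {E : Type*} [Group E]
  {τ : E →* Matrix.SpecialLinearGroup (Fin (m + 1)) F} {X : Fin (m + 1) → Fin (m + 1) → F → E}

/-- the lifted unipotent group -/
def UU (X : Fin (m + 1) → Fin (m + 1) → F → E) : Subgroup E :=
  Subgroup.closure {x | ∃ (i j : Fin (m + 1)) (t : F), i < j ∧ x = X i j t}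

/-- the part of the lifted unipotent group away from a simple root -/
def UUk (X : Fin (m + 1) → Fin (m + 1) → F → E) (k : Fin m) : Subgroup E :=
  Subgroup.closure {x | ∃ (i j : Fin (m + 1)) (t : F), i < j ∧
    ¬ (i = k.castSucc ∧ j = k.succ) ∧ x = X i j t}

/-- the big cell decomposition -/
def InS (X : Fin (m + 1) → Fin (m + 1) → F → E) (z : E) : Prop :=
  ∃ u₁ ∈ UU X, ∃ w ∈ WW X, ∃ u₂ ∈ UU X, z = u₁ * w * u₂

omit [Fintype F] in
theorem inS_mul_left_UU {z u : E} (hu : u ∈ UU X) (hz : InS X z) : InS X (u * z) := by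
  obtain ⟨u₁, hu₁, w, hw, u₂, hu₂, rfl⟩ := hz
  exact ⟨u * u₁, mul_mem hu hu₁, w, hw, u₂, hu₂, by group⟩

omit [Fintype F] in
theorem ee_flag {i j : Fin (m + 1)} (hij : i < j) (t : F) (v : Fin (m + 1) → F)
    (b : Fin (m + 1)) (hv : ∀ a, b < a → v a = 0) :
    (∀ a, b < a → (ee i j t • v) a = 0) ∧ (ee i j t • v) b = v b := by
  constructor
  · intro a ha
    rw [ee_smul_apply (ne_of_lt hij), hv a ha, zero_add]
    split_ifs with h
    · rw [hv j (by rw [h] at ha; exact ha.trans hij), mul_zero]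
    · rfl
  · rw [ee_smul_apply (ne_of_lt hij)]
    split_ifs with h
    · rw [hv j (by rw [h]; exact hij), mul_zero, add_zero]
    · rw [add_zero]

variable (hX : IsStein τ X)
include hX

omit [Fintype F] in
theorem UU_flag {u : E} (hu : u ∈ UU X) (v : Fin (m + 1) → F) (b : Fin (m + 1))
    (hv : ∀ a, b < a → v a = 0) : (∀ a, b < a → (τ u • v) a = 0) ∧ (τ u • v) b = v b := by
  unfold UU at hu
  induction hu using Subgroup.closure_induction_left generalizing v with
  | one => rw [map_one, one_smul]; exact ⟨hv, rfl⟩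
  | mul_left x hx y _ ih =>
    obtain ⟨i, j, t, hij, rfl⟩ := hx
    obtain ⟨h1, h2⟩ := ih v hv
    rw [map_mul, mul_smul, hX.map i j t (ne_of_lt hij)]
    obtain ⟨h3, h4⟩ := ee_flag hij t (τ y • v) b h1
    exact ⟨h3, h4.trans h2⟩
  | inv_mul_cancel x hx y _ ih =>
    obtain ⟨i, j, t, hij, rfl⟩ := hx
    obtain ⟨h1, h2⟩ := ih v hv
    rw [map_mul, mul_smul, ← hX.neg (ne_of_lt hij), hX.map i j _ (ne_of_lt hij)]
    obtain ⟨h3, h4⟩ := ee_flag hij (-t) (τ y • v) b h1
    exact ⟨h3, h4.trans h2⟩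

omit [Fintype F] in
theorem UU_mono_eq_one {u : E} (hu : u ∈ UU X) {π : Equiv.Perm (Fin (m + 1))}
    {d : Fin (m + 1) → F} (hmono : IsMono (τ u) π d) : τ u = 1 := by
  refine ext_smul fun b => ?_
  have h1 := (UU_flag hX hu (Pi.single b 1) b (fun a ha => by
    rw [Pi.single_apply, if_neg (ne_of_gt ha)])).2
  rw [hmono b] at h1
  simp only [Pi.smul_apply, Pi.single_apply, smul_eq_mul, if_true, mul_ite, mul_one,
    mul_zero] at h1
  by_cases hb : b = π b
  · rw [if_pos hb] at h1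
    rw [hmono b, ← hb, h1, one_smul, one_smul]
  · rw [if_neg hb] at h1
    exact absurd h1 zero_ne_one

omit [Fintype F] in
theorem UU_inj {u : E} (hu : u ∈ UU X) (hτ : τ u = 1) : u = 1 := by
  refine drow_inj hX (m + 1) 0 (by omega) u ?_ hτ
  unfold UU at hu
  unfold Drow
  refine Subgroup.closure_mono ?_ hu
  rintro x ⟨i, j, t, hij, rfl⟩
  exact ⟨i, j, t, Nat.zero_le _, hij, rfl⟩

omit [Fintype F] in
theorem X_mul_mono {w : E} {π : Equiv.Perm (Fin (m + 1))} {d : Fin (m + 1) → F}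
    (hmono : IsMono (τ w) π d) {a b : Fin (m + 1)} (hab : a ≠ b) (t : F) :
    X a b t * w = w * X (π⁻¹ a) (π⁻¹ b) ((d (π⁻¹ a) * (d (π⁻¹ b))⁻¹)⁻¹ * t) := by
  have hne : π⁻¹ a ≠ π⁻¹ b := fun h => hab (π⁻¹.injective h)
  have h1 := hX.conj w π d hmono (π⁻¹ a) (π⁻¹ b)
    ((d (π⁻¹ a) * (d (π⁻¹ b))⁻¹)⁻¹ * t) hne
  have e1 : π (π⁻¹ a) = a := by simp
  have e2 : π (π⁻¹ b) = b := by simp
  have hc : d (π⁻¹ a) * (d (π⁻¹ b))⁻¹ ≠ 0 :=
    mul_ne_zero (hmono.ne_zero _) (inv_ne_zero (hmono.ne_zero _))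
  rw [e1, e2, mul_inv_cancel_left₀ hc] at h1
  rw [← h1]
  group

omit [Fintype F] in
theorem Xab_conj_gen (k : Fin m) {i j : Fin (m + 1)} (hij : i < j)
    (hne : ¬ (i = k.castSucc ∧ j = k.succ)) (s t : F) :
    X k.castSucc k.succ t * X i j s * (X k.castSucc k.succ t)⁻¹ ∈ UUk X k := by
  have hab := Fin.castSucc_lt_succ (i := k)
  by_cases hja : j = k.castSucc
  · subst hja
    have h1 := hX.comm i k.castSucc k.succ s t (ne_of_lt hij) (ne_of_lt hab)
      (ne_of_lt (hij.trans hab))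
    have h2 : X k.castSucc k.succ t * X i k.castSucc s * (X k.castSucc k.succ t)⁻¹ =
        (X i k.succ (s * t))⁻¹ * X i k.castSucc s := by
      rw [← h1, commutatorElement_def]; group
    rw [h2]
    refine mul_mem (inv_mem (Subgroup.subset_closure ⟨i, k.succ, _, hij.trans hab, ?_, rfl⟩))
      (Subgroup.subset_closure ⟨i, k.castSucc, _, hij, hne, rfl⟩)
    rintro ⟨h, -⟩
    exact (ne_of_lt hij) h
  · by_cases hib : i = k.succ
    · subst hib
      have h1 := hX.comm k.castSucc k.succ j t s (ne_of_lt hab) (ne_of_lt hij)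
        (ne_of_lt (hab.trans hij))
      have h2 : X k.castSucc k.succ t * X k.succ j s * (X k.castSucc k.succ t)⁻¹ =
          X k.castSucc j (t * s) * X k.succ j s := by
        rw [← h1, commutatorElement_def]; group
      rw [h2]
      refine mul_mem (Subgroup.subset_closure ⟨k.castSucc, j, _, hab.trans hij, ?_, rfl⟩)
        (Subgroup.subset_closure ⟨k.succ, j, _, hij, hne, rfl⟩)
      rintro ⟨-, h⟩
      exact (ne_of_gt hij) h
    · have h1 := hX.commute k.castSucc k.succ i j t s (ne_of_lt hab) (ne_of_lt hij)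
        (Ne.symm hib) (Ne.symm hja)
      rw [h1.eq, mul_inv_cancel_right]
      exact Subgroup.subset_closure ⟨i, j, s, hij, hne, rfl⟩

omit [Fintype F] in
theorem UU_split (k : Fin m) {u : E} (hu : u ∈ UU X) :
    ∃ u' ∈ UUk X k, ∃ t, u = u' * X k.castSucc k.succ t := by
  have hab := Fin.castSucc_lt_succ (i := k)
  have hgen : ∀ (i j : Fin (m + 1)) (s : F), i < j → ∀ u' ∈ UUk X k, ∀ t : F,
      ∃ u'' ∈ UUk X k, ∃ t', u' * X k.castSucc k.succ t * X i j s =
        u'' * X k.castSucc k.succ t' := by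
    intro i j s hij u' hu' t
    by_cases h : i = k.castSucc ∧ j = k.succ
    · obtain ⟨rfl, rfl⟩ := h
      exact ⟨u', hu', t + s, by rw [hX.add _ _ _ _ (ne_of_lt hab), mul_assoc]⟩
    · exact ⟨u' * (X k.castSucc k.succ t * X i j s * (X k.castSucc k.succ t)⁻¹),
        mul_mem hu' (Xab_conj_gen hX k hij h s t), t, by group⟩
  unfold UU at hu
  induction hu using Subgroup.closure_induction_right with
  | one => exact ⟨1, one_mem _, 0, by rw [hX.zero (ne_of_lt hab), mul_one]⟩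
  | mul_right x _ y hy ih =>
    obtain ⟨u', hu', t, rfl⟩ := ih
    obtain ⟨i, j, s, hij, rfl⟩ := hy
    exact hgen i j s hij u' hu' t
  | mul_inv_cancel x _ y hy ih =>
    obtain ⟨u', hu', t, rfl⟩ := ih
    obtain ⟨i, j, s, hij, rfl⟩ := hy
    rw [← hX.neg (ne_of_lt hij)]
    exact hgen i j (-s) hij u' hu' t

omit [Fintype F] in
theorem ww_conj_UUk (k : Fin m) {u : F} (hu : u ≠ 0) {u' : E} (hu' : u' ∈ UUk X k) :
    ww X k.castSucc k.succ u * u' * (ww X k.castSucc k.succ u)⁻¹ ∈ UU X := by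
  have hab := Fin.castSucc_lt_succ (i := k)
  unfold UUk at hu'
  induction hu' using Subgroup.closure_induction with
  | mem x hx =>
    obtain ⟨i, j, s, hij, hne, rfl⟩ := hx
    rw [hX.conj _ _ _ (isMono_ww hX (ne_of_lt hab) hu) i j s (ne_of_lt hij)]
    refine Subgroup.subset_closure ⟨_, _, _, ?_, rfl⟩
    rw [Equiv.swap_apply_def, Equiv.swap_apply_def]
    have ha : (k.castSucc : Fin (m + 1)).val = k.val := rfl
    have hb : (k.succ : Fin (m + 1)).val = k.val + 1 := rfl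
    rw [Fin.ext_iff, Fin.ext_iff, ha, hb] at hne
    rw [Fin.lt_def] at hij
    split_ifs with h1 h2 h3 h4 h5 h6 h7 h8 <;>
      simp only [Fin.lt_def, Fin.ext_iff, ha, hb] at * <;> omega
  | one => simp
  | mul x y _ _ hx hy =>
    have : ww X k.castSucc k.succ u * (x * y) * (ww X k.castSucc k.succ u)⁻¹ =
        (ww X k.castSucc k.succ u * x * (ww X k.castSucc k.succ u)⁻¹) *
        (ww X k.castSucc k.succ u * y * (ww X k.castSucc k.succ u)⁻¹) := by group
    rw [this]; exact mul_mem hx hy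
  | inv x _ hx =>
    have : ww X k.castSucc k.succ u * x⁻¹ * (ww X k.castSucc k.succ u)⁻¹ =
        (ww X k.castSucc k.succ u * x * (ww X k.castSucc k.succ u)⁻¹)⁻¹ := by group
    rw [this]; exact inv_mem hx

omit [Fintype F] in
theorem ww_mem_WW (k : Fin m) {u : F} (hu : u ≠ 0) : ww X k.castSucc k.succ u ∈ WW X := by
  have hab := cs_ne k
  have h1 : ww X k.castSucc k.succ u = hh X k.castSucc k.succ u * nn X k := by
    unfold hh nn
    rw [ww_neg hX hab 1, inv_mul_cancel_right]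
  rw [h1]
  unfold WW
  exact mul_mem (Subgroup.subset_closure (Or.inl (Subgroup.subset_closure ⟨_, _, u, hab, hu, rfl⟩)))
    (Subgroup.subset_closure (Or.inr ⟨k, rfl⟩))

variable (hK : τ.ker ≤ Subgroup.center E) (hm : 2 ≤ m)
include hK hm

theorem inS_ww_X_mul (k : Fin m) {u : F} (hu : u ≠ 0) (t : F) {w : E} (hw : w ∈ WW X) :
    InS X (ww X k.castSucc k.succ u * X k.castSucc k.succ t * w) := by
  have hab := cs_ne k
  obtain ⟨π, d, hmono⟩ := WW_mono hX hK hm hw
  have hne : π⁻¹ k.castSucc ≠ π⁻¹ k.succ := fun h => hab (π⁻¹.injective h)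
  have hXw := X_mul_mono hX hmono hab t
  obtain ⟨s, hs⟩ : ∃ s : F, s = (d (π⁻¹ k.castSucc) * (d (π⁻¹ k.succ))⁻¹)⁻¹ * t := ⟨_, rfl⟩
  rw [← hs] at hXw
  have hwu := ww_mem_WW hX k hu
  rcases lt_or_gt_of_ne hne with hlt | hgt
  · refine ⟨1, one_mem _, ww X k.castSucc k.succ u * w, mul_mem hwu hw,
      X (π⁻¹ k.castSucc) (π⁻¹ k.succ) s,
      Subgroup.subset_closure ⟨_, _, _, hlt, rfl⟩, ?_⟩
    rw [one_mul, mul_assoc (ww X k.castSucc k.succ u), hXw, mul_assoc]
  · by_cases ht : t = 0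
    · subst ht
      rw [hX.zero hab, mul_one]
      exact ⟨1, one_mem _, ww X k.castSucc k.succ u * w, mul_mem hwu hw, 1, one_mem _, by group⟩
    · have h1 := ww_conj_X hX hab hu t
      obtain ⟨μ, hμ⟩ : ∃ μ : F, μ = -u⁻¹ * u⁻¹ * t := ⟨_, rfl⟩
      rw [← hμ] at h1
      have hμ0 : μ ≠ 0 := by
        rw [hμ]
        exact mul_ne_zero (mul_ne_zero (neg_ne_zero.2 (inv_ne_zero hu)) (inv_ne_zero hu)) ht
      have h2 := X_eq_ww hX hab hμ0
      have hmono'' := (isMono_ww hX hab hu).mul hmono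
      rw [← map_mul] at hmono''
      have h3 := X_mul_mono hX hmono'' hab μ⁻¹
      generalize hs' : (_ * (_ : F)⁻¹)⁻¹ * μ⁻¹ = s' at h3
      have e1 : (Equiv.swap k.castSucc k.succ * π)⁻¹ k.castSucc = π⁻¹ k.succ := by
        rw [_root_.mul_inv_rev, Equiv.Perm.mul_apply, Equiv.swap_inv, Equiv.swap_apply_left]
      have e2 : (Equiv.swap k.castSucc k.succ * π)⁻¹ k.succ = π⁻¹ k.castSucc := by
        rw [_root_.mul_inv_rev, Equiv.Perm.mul_apply, Equiv.swap_inv, Equiv.swap_apply_right]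
      rw [e1, e2] at h3
      refine ⟨X k.castSucc k.succ μ⁻¹,
        Subgroup.subset_closure ⟨_, _, _, Fin.castSucc_lt_succ, rfl⟩,
        ww X k.castSucc k.succ (-μ⁻¹) * (ww X k.castSucc k.succ u * w),
        mul_mem (ww_mem_WW hX k (neg_ne_zero.2 (inv_ne_zero hμ0))) (mul_mem hwu hw),
        X (π⁻¹ k.succ) (π⁻¹ k.castSucc) s',
        Subgroup.subset_closure ⟨_, _, _, hgt, rfl⟩, ?_⟩
      calc ww X k.castSucc k.succ u * X k.castSucc k.succ t * w
          = X k.succ k.castSucc μ * (ww X k.castSucc k.succ u * w) := by rw [← h1]; group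
        _ = X k.castSucc k.succ μ⁻¹ * ww X k.castSucc k.succ (-μ⁻¹) *
            (X k.castSucc k.succ μ⁻¹ * (ww X k.castSucc k.succ u * w)) := by rw [h2]; group
        _ = _ := by rw [h3]; group

theorem inS_ww_adj (k : Fin m) {u : F} (hu : u ≠ 0) {z : E} (hz : InS X z) :
    InS X (ww X k.castSucc k.succ u * z) := by
  obtain ⟨u₁, hu₁, w, hw, u₂, hu₂, rfl⟩ := hz
  obtain ⟨u', hu', t, rfl⟩ := UU_split hX k hu₁
  obtain ⟨v₁, hv₁, w', hw', v₂, hv₂, h⟩ := inS_ww_X_mul hX hK hm k hu t hw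
  refine ⟨ww X k.castSucc k.succ u * u' * (ww X k.castSucc k.succ u)⁻¹ * v₁,
    mul_mem (ww_conj_UUk hX k hu hu') hv₁, w', hw', v₂ * u₂, mul_mem hv₂ hu₂, ?_⟩
  calc ww X k.castSucc k.succ u * (u' * X k.castSucc k.succ t * w * u₂)
      = ww X k.castSucc k.succ u * u' * (ww X k.castSucc k.succ u)⁻¹ *
        (ww X k.castSucc k.succ u * X k.castSucc k.succ t * w) * u₂ := by group
    _ = _ := by rw [h]; group

theorem inS_ww_lt : ∀ (δ : ℕ) (a b : Fin (m + 1)), b.val = a.val + 1 + δ → ∀ u : F, u ≠ 0 →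
    ∀ z, InS X z → InS X (ww X a b u * z) := by
  intro δ
  induction δ with
  | zero =>
    intro a b hab u hu z hz
    have hk : a.val < m := by have := b.2; omega
    have ha : a = (⟨a.val, hk⟩ : Fin m).castSucc := Fin.ext rfl
    have hb : b = (⟨a.val, hk⟩ : Fin m).succ := Fin.ext (by simp; omega)
    rw [ha, hb]
    exact inS_ww_adj hX hK hm _ hu hz
  | succ δ ih =>
    intro a b hab u hu z hz
    have hk : b.val - 1 < m := by have := b.2; omega
    obtain ⟨kc, hkc⟩ : ∃ kc : Fin m, kc = ⟨b.val - 1, hk⟩ := ⟨_, rfl⟩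
    have hb : b = kc.succ := by rw [hkc]; exact Fin.ext (by simp; omega)
    have hac : a ≠ kc.castSucc := by
      intro h; rw [Fin.ext_iff, hkc] at h; simp at h; omega
    have hab' : a ≠ kc.succ := by
      intro h; rw [Fin.ext_iff, hkc] at h; simp at h; omega
    have hcb := cs_ne kc
    have h1 := ww_conj hX (isMono_ww hX hcb (u := 1) one_ne_zero) hac (u := -u)
      (neg_ne_zero.2 hu)
    rw [Equiv.swap_apply_of_ne_of_ne hac hab', Equiv.swap_apply_left] at h1
    have hcoef : dW kc.castSucc kc.succ (1 : F) a * (dW kc.castSucc kc.succ (1 : F) kc.castSucc)⁻¹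
        * -u = u := by
      simp [dW, hac, hab']
    rw [hcoef] at h1
    rw [hb, ← h1]
    have h2 : ww X kc.castSucc kc.succ 1 * ww X a kc.castSucc (-u) *
        (ww X kc.castSucc kc.succ 1)⁻¹ * z = ww X kc.castSucc kc.succ 1 *
        (ww X a kc.castSucc (-u) * (ww X kc.castSucc kc.succ (-1) * z)) := by
      rw [ww_neg hX hcb 1]; group
    rw [h2]
    refine inS_ww_adj hX hK hm kc one_ne_zero (ih a kc.castSucc ?_ (-u) (neg_ne_zero.2 hu) _
      (inS_ww_adj hX hK hm kc (by simp) hz))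
    rw [hkc]
    simp
    omega

theorem inS_ww {a b : Fin (m + 1)} (hab : a ≠ b) {u : F} (hu : u ≠ 0) {z : E} (hz : InS X z) :
    InS X (ww X a b u * z) := by
  rcases lt_or_gt_of_ne hab with h | h
  · exact inS_ww_lt hX hK hm (b.val - a.val - 1) a b (by rw [Fin.lt_def] at h; omega) u hu z hz
  · rw [ww_symm hX hab.symm hu]
    exact inS_ww_lt hX hK hm (a.val - b.val - 1) b a (by rw [Fin.lt_def] at h; omega) _
      (neg_ne_zero.2 (inv_ne_zero hu)) z hz

theorem inS_X {i j : Fin (m + 1)} (hij : i ≠ j) (t : F) {z : E} (hz : InS X z) :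
    InS X (X i j t * z) := by
  rcases lt_or_gt_of_ne hij with h | h
  · exact inS_mul_left_UU (Subgroup.subset_closure ⟨i, j, t, h, rfl⟩) hz
  · have h1 := ww_conj_X hX hij.symm (a := 1) one_ne_zero (-t)
    have e : (-(1 : F)⁻¹ * 1⁻¹ * -t) = t := by simp
    rw [e] at h1
    have h2 : X i j t * z = ww X j i 1 * (X j i (-t) * (ww X j i (-1) * z)) := by
      rw [← h1, ww_neg hX hij.symm 1]; group
    rw [h2]
    exact inS_ww hX hK hm hij.symm one_ne_zero (inS_mul_left_UU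
      (Subgroup.subset_closure ⟨j, i, -t, h, rfl⟩) (inS_ww hX hK hm hij.symm (by simp) hz))

theorem inS_all (hgen : Subgroup.closure {x | ∃ (i j : Fin (m + 1)) (t : F), i ≠ j ∧
    x = X i j t} = ⊤) (z : E) : InS X z := by
  have hz : z ∈ Subgroup.closure {x | ∃ (i j : Fin (m + 1)) (t : F), i ≠ j ∧ x = X i j t} := by
    rw [hgen]; trivial
  induction hz using Subgroup.closure_induction_left with
  | one => exact ⟨1, one_mem _, 1, one_mem _, 1, one_mem _, by simp⟩
  | mul_left x hx y _ ih =>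
    obtain ⟨i, j, t, hij, rfl⟩ := hx
    exact inS_X hX hK hm hij t ih
  | inv_mul_cancel x hx y _ ih =>
    obtain ⟨i, j, t, hij, rfl⟩ := hx
    rw [← hX.neg hij]
    exact inS_X hX hK hm hij (-t) ih

/-- a central extension of `SL` generated by Steinberg data is trivial -/
theorem ker_eq_bot_of_isStein (hgen : Subgroup.closure {x | ∃ (i j : Fin (m + 1)) (t : F), i ≠ j ∧
    x = X i j t} = ⊤) : τ.ker = ⊥ := by
  rw [eq_bot_iff]
  intro z hz
  have hcen := hK hz
  rw [MonoidHom.mem_ker] at hz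
  obtain ⟨u₁, hu₁, w, hw, u₂, hu₂, rfl⟩ := inS_all hX hK hm hgen z
  have h1 : u₁ * w * u₂ = (u₂ * u₁) * w := by
    have := (Subgroup.mem_center_iff.1 hcen) u₂
    have h2 : u₂ * u₁ * w * u₂ = u₁ * w * u₂ * u₂ := by rw [← this]; group
    exact (mul_right_cancel h2).symm
  obtain ⟨π, d, hmono⟩ := WW_mono hX hK hm hw
  have hτ : τ (u₂ * u₁) * τ w = 1 := by rw [← map_mul, ← h1]; exact hz
  have hu : u₂ * u₁ ∈ UU X := mul_mem hu₂ hu₁
  have hmono' := hmono.inv
  rw [← eq_inv_of_mul_eq_one_left hτ] at hmono'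
  have h3 := UU_mono_eq_one hX hu hmono'
  have h4 : τ w = 1 := by rw [h3, one_mul] at hτ; exact hτ
  rw [h1, UU_inj hX hu h3, WW_inj hX hK hm hw h4, mul_one]
  exact one_mem _

end Bruhat

end Cfsg.Agent.Lib.Helper35.SLn
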