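import Mathlib
import Cfsg.Agent.Lib.Helper41.SL2
import Cfsg.Agent.Lib.Helper35.Schur

set_option autoImplicit false

namespace Cfsg.Agent.Lib.Helper35

open scoped commutatorElement

section FieldForm

theorem card_filter_units_root_le {F : Type*} [Field F] [Fintype F] [DecidableEq F]
    (P : Polynomial F) (hP : P ≠ 0) :
    (Finset.univ.filter (fun a : Fˣ => P.eval (a : F) = 0)).card ≤ P.natDegree := by
  calc (Finset.univ.filter (fun a : Fˣ => P.eval (a : F) = 0)).card
      ≤ P.roots.toFinset.card := by
        refine Finset.card_le_card_of_injOn (fun a : Fˣ => (a : F)) ?_ ?_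
        · intro a ha
          have ha' : P.eval (a : F) = 0 := by simpa using ha
          simp [Polynomial.mem_roots hP, ha']
        · intro a _ b _ hab
          exact Units.ext hab
    _ ≤ Multiset.card P.roots := Multiset.toFinset_card_le _
    _ ≤ P.natDegree := Polynomial.card_roots' P

/-- a biadditive alternating map on a finite field invariant under scaling both arguments by
nonzero squares vanishes, unless the field has 4 or 9 elements -/
theorem bilin_eq_zero_of_sq_invariant {F : Type*} [Field F] [Fintype F] {A : Type*}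
    [AddCommGroup A] (h4 : Fintype.card F ≠ 4) (h9 : Fintype.card F ≠ 9)
    (β : F → F → A)
    (hadd₁ : ∀ s s' t, β (s + s') t = β s t + β s' t)
    (hadd₂ : ∀ s t t', β s (t + t') = β s t + β s t')
    (halt : ∀ s, β s s = 0)
    (hinv : ∀ a : F, a ≠ 0 → ∀ s t, β (a * a * s) (a * a * t) = β s t) :
    ∀ s t, β s t = 0 := by
  classical
  have hz₁ : ∀ t, β 0 t = 0 := by
    intro t
    have := hadd₁ 0 0 t
    rw [add_zero] at this
    exact left_eq_add.mp this
  have hz₂ : ∀ s, β s 0 = 0 := by
    intro s
    have := hadd₂ s 0 0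
    rw [add_zero] at this
    exact left_eq_add.mp this
  have hneg₁ : ∀ s t, β (-s) t = -β s t := by
    intro s t
    have := hadd₁ s (-s) t
    rw [add_neg_cancel, hz₁] at this
    exact eq_neg_of_add_eq_zero_right this.symm
  have hneg₂ : ∀ s t, β s (-t) = -β s t := by
    intro s t
    have := hadd₂ s t (-t)
    rw [add_neg_cancel, hz₂] at this
    exact eq_neg_of_add_eq_zero_right this.symm
  let R₀ : Subfield F :=
    { carrier := {r | ∀ s t, β (r * s) t = β s (r * t)}
      mul_mem' := by
        intro r r' hr hr' s t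
        rw [mul_assoc, hr, hr', ← mul_assoc, mul_comm r' r]
      one_mem' := by intro s t; rw [one_mul, one_mul]
      add_mem' := by
        intro r r' hr hr' s t
        rw [add_mul, add_mul, hadd₁, hadd₂, hr, hr']
      zero_mem' := by intro s t; rw [zero_mul, zero_mul, hz₁, hz₂]
      neg_mem' := by
        intro r hr s t
        rw [neg_mul, neg_mul, hneg₁, hneg₂, hr]
      inv_mem' := by
        intro r hr s t
        by_cases h0 : r = 0
        · rw [h0, inv_zero, zero_mul, zero_mul, hz₁, hz₂]
        · have := hr (r⁻¹ * s) (r⁻¹ * t)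
          rw [mul_inv_cancel_left₀ h0, mul_inv_cancel_left₀ h0] at this
          exact this.symm }
  have hmem : ∀ r, r ∈ R₀ ↔ ∀ s t, β (r * s) t = β s (r * t) := fun r => Iff.rfl
  have hsq : ∀ a : F, a ≠ 0 → a * a + (a * a)⁻¹ ∈ R₀ := by
    intro a ha s t
    have hl : a * a ≠ 0 := mul_ne_zero ha ha
    have h1 : β (a * a * s) t = β s ((a * a)⁻¹ * t) := by
      have := hinv a ha s ((a * a)⁻¹ * t)
      rw [mul_inv_cancel_left₀ hl] at this
      exact this
    have h2 : β ((a * a)⁻¹ * s) t = β s (a * a * t) := by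
      have := hinv a ha ((a * a)⁻¹ * s) t
      rw [mul_inv_cancel_left₀ hl] at this
      exact this.symm
    rw [add_mul, add_mul, hadd₁, hadd₂, h1, h2, add_comm]
  have hcard : Fintype.card F = Fintype.card R₀ ^ Module.finrank R₀ F :=
    Module.card_eq_pow_finrank
  have hq₀ : 2 ≤ Fintype.card R₀ := Fintype.one_lt_card
  have hq : 2 ≤ Fintype.card F := Fintype.one_lt_card
  have hunits : Fintype.card Fˣ = Fintype.card F - 1 := Fintype.card_units F
  have hb4 : Fintype.card F - 1 ≤ 4 * Fintype.card R₀ := by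
    rw [← hunits, ← Finset.card_univ, ← Finset.card_univ (α := R₀)]
    apply Finset.card_le_mul_card_image_of_maps_to
      (f := fun a : Fˣ => (⟨(a : F) * a + ((a : F) * a)⁻¹, hsq a a.ne_zero⟩ : R₀))
      (fun a _ => Finset.mem_univ _)
    intro c _
    let P : Polynomial F := Polynomial.X ^ 4 - Polynomial.C (c : F) * Polynomial.X ^ 2 + 1
    have hP : P ≠ 0 := by
      intro h
      have := congrArg (Polynomial.eval 0) h
      simp [P] at this
    have hdeg : P.natDegree ≤ 4 := by simp only [P]; compute_degree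
    refine le_trans (Finset.card_le_card ?_) (le_trans (card_filter_units_root_le P hP) hdeg)
    intro a ha
    simp only [Finset.mem_filter, Finset.mem_univ, true_and] at ha ⊢
    have ha' : (a : F) * a + ((a : F) * a)⁻¹ = c := congrArg Subtype.val ha
    have hne : (a : F) ≠ 0 := a.ne_zero
    simp only [P, Polynomial.eval_add, Polynomial.eval_sub, Polynomial.eval_pow,
      Polynomial.eval_X, Polynomial.eval_mul, Polynomial.eval_C, Polynomial.eval_one]
    rw [← ha']
    field_simp
    ring
  have hb2 : (2 : F) = 0 → Fintype.card F - 1 ≤ 2 * Fintype.card R₀ := by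
    intro h2
    have hcp : CharP F 2 := CharTwo.of_one_ne_zero_of_two_eq_zero one_ne_zero h2
    have hchar : ringChar F = 2 := ringChar.eq F 2
    have hall : ∀ l : F, l ≠ 0 → l + l⁻¹ ∈ R₀ := by
      intro l hl
      obtain ⟨a, rfl⟩ := FiniteField.isSquare_of_char_two hchar l
      exact hsq a (by rintro rfl; simp at hl)
    rw [← hunits, ← Finset.card_univ, ← Finset.card_univ (α := R₀)]
    apply Finset.card_le_mul_card_image_of_maps_to
      (f := fun a : Fˣ => (⟨(a : F) + (a : F)⁻¹, hall a a.ne_zero⟩ : R₀))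
      (fun a _ => Finset.mem_univ _)
    intro c _
    let P : Polynomial F := Polynomial.X ^ 2 - Polynomial.C (c : F) * Polynomial.X + 1
    have hP : P ≠ 0 := by
      intro h
      have := congrArg (Polynomial.eval 0) h
      simp [P] at this
    have hdeg : P.natDegree ≤ 2 := by simp only [P]; compute_degree
    refine le_trans (Finset.card_le_card ?_) (le_trans (card_filter_units_root_le P hP) hdeg)
    intro a ha
    simp only [Finset.mem_filter, Finset.mem_univ, true_and] at ha ⊢
    have ha' : (a : F) + (a : F)⁻¹ = c := congrArg Subtype.val ha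
    have hne : (a : F) ≠ 0 := a.ne_zero
    simp only [P, Polynomial.eval_add, Polynomial.eval_sub, Polynomial.eval_pow,
      Polynomial.eval_X, Polynomial.eval_mul, Polynomial.eval_C, Polynomial.eval_one]
    rw [← ha']
    field_simp
    ring
  have hR₀top : ∀ r : F, r ∈ R₀ := by
    have hj : Module.finrank R₀ F = 1 := by
      by_contra hj
      have hj0 : Module.finrank R₀ F ≠ 0 := by
        intro h0
        rw [h0, pow_zero] at hcard
        omega
      have hj2 : 2 ≤ Module.finrank R₀ F := by omega
      have hsq_le : Fintype.card R₀ ^ 2 ≤ Fintype.card F := by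
        rw [hcard]; exact Nat.pow_le_pow_right (by omega) hj2
      by_cases h2 : (2 : F) = 0
      · have hb := hb2 h2
        have hq₀2 : Fintype.card R₀ = 2 := by
          by_contra hne
          have h3 : 3 ≤ Fintype.card R₀ := by omega
          have hb' : Fintype.card F ≤ 2 * Fintype.card R₀ + 1 := by omega
          nlinarith
        rw [hq₀2] at hcard hb
        rcases Nat.lt_or_ge (Module.finrank R₀ F) 3 with h3 | h3
        · have h22 : Module.finrank R₀ F = 2 := by omega
          rw [h22] at hcard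
          exact h4 (by rw [hcard]; norm_num)
        · have : 2 ^ 3 ≤ 2 ^ Module.finrank R₀ F := Nat.pow_le_pow_right (by norm_num) h3
          omega
      · have hodd : Fintype.card F % 2 = 1 :=
          Cfsg.Agent.Lib.Helper41.card_mod_two_of_two_ne_zero h2
        have hq₀4 : Fintype.card R₀ ≤ 4 := by
          by_contra hne
          have h5 : 5 ≤ Fintype.card R₀ := by omega
          have hb' : Fintype.card F ≤ 4 * Fintype.card R₀ + 1 := by omega
          nlinarith
        have hdvd : Fintype.card R₀ ∣ Fintype.card F := by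
          rw [hcard]; exact dvd_pow_self _ hj0
        have hq₀3 : Fintype.card R₀ = 3 := by
          obtain ⟨k, hk⟩ := hdvd
          have : Fintype.card R₀ ≠ 2 := by intro h; rw [h] at hk; omega
          have : Fintype.card R₀ ≠ 4 := by intro h; rw [h] at hk; omega
          omega
        rw [hq₀3] at hcard hb4
        rcases Nat.lt_or_ge (Module.finrank R₀ F) 3 with h3 | h3
        · have h22 : Module.finrank R₀ F = 2 := by omega
          rw [h22] at hcard
          exact h9 (by rw [hcard]; norm_num)
        · have : 3 ^ 3 ≤ 3 ^ Module.finrank R₀ F := Nat.pow_le_pow_right (by norm_num) h3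
          omega
    have hce : Fintype.card R₀ = Fintype.card F := by rw [hcard, hj, pow_one]
    intro r
    by_contra hr
    have hlt := Fintype.card_subtype_lt (p := fun x => x ∈ R₀) hr
    have heq : Fintype.card {x // x ∈ R₀} = Fintype.card R₀ := Fintype.card_congr (Equiv.refl _)
    omega
  have hbal : ∀ r s t, β (r * s) t = β s (r * t) := fun r => (hmem r).mp (hR₀top r)
  have hsymm : ∀ s t, β s t = β t s := by
    intro s t
    have h1 := hbal s 1 t
    have h2 := hbal t 1 s
    rw [mul_one] at h1 h2
    rw [h1, h2, mul_comm]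
  have hanti : ∀ s t, β s t + β t s = 0 := by
    intro s t
    have := halt (s + t)
    rw [hadd₁, hadd₂, hadd₂, halt, halt, zero_add, add_zero] at this
    exact this
  intro s t
  by_cases h2 : (2 : F) = 0
  · have hcp : CharP F 2 := CharTwo.of_one_ne_zero_of_two_eq_zero one_ne_zero h2
    have hchar : ringChar F = 2 := ringChar.eq F 2
    obtain ⟨w, hw⟩ := FiniteField.isSquare_of_char_two hchar (s * t)
    have h1 := hbal s 1 t
    rw [mul_one] at h1
    have h3 := hbal w 1 w
    rw [mul_one] at h3
    rw [h1, hw, ← h3, halt]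
  · have h1 := hanti (2⁻¹ * s) t
    rw [hsymm t (2⁻¹ * s)] at h1
    have h3 : β s t = β (2⁻¹ * s) t + β (2⁻¹ * s) t := by
      rw [← hadd₁, ← two_mul, mul_inv_cancel_left₀ h2]
    rw [h3, h1]

end FieldForm

section UpperPart

open Cfsg.Agent.Lib.Helper41

variable {F : Type*} [Field F]

theorem upperU_add' (s t : F) : upperU (s + t) = upperU s * upperU t := by
  apply Subtype.ext
  rw [Matrix.SpecialLinearGroup.coe_mul, upperU_coe, upperU_coe, upperU_coe]
  ext i j
  fin_cases i <;> fin_cases j <;> simp [Matrix.mul_apply, Fin.sum_univ_two, add_comm]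

theorem diagD_mul_upperU (a : Fˣ) (s : F) :
    diagD a * upperU s = upperU ((a : F) * a * s) * diagD a := by
  apply Subtype.ext
  rw [Matrix.SpecialLinearGroup.coe_mul, Matrix.SpecialLinearGroup.coe_mul, upperU_coe,
    upperU_coe, diagD_coe]
  ext i j
  fin_cases i <;> fin_cases j <;> simp [Matrix.mul_apply, Fin.sum_univ_two, mul_assoc] <;>
    field_simp

theorem comm_mul_left_of_central {G : Type*} [Group G] (a b c : G)
    (h : ⁅b, c⁆ ∈ Subgroup.center G) : ⁅a * b, c⁆ = ⁅a, c⁆ * ⁅b, c⁆ := by
  have h1 : ⁅a * b, c⁆ = a * ⁅b, c⁆ * a⁻¹ * ⁅a, c⁆ := by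
    simp only [commutatorElement_def]; group
  rw [h1, Subgroup.mem_center_iff.mp h a, mul_inv_cancel_right,
    ← Subgroup.mem_center_iff.mp h ⁅a, c⁆]

theorem comm_mul_right_of_central {G : Type*} [Group G] (a b c : G)
    (h : ⁅a, c⁆ ∈ Subgroup.center G) : ⁅a, b * c⁆ = ⁅a, b⁆ * ⁅a, c⁆ := by
  have h1 : ⁅a, b * c⁆ = ⁅a, b⁆ * (b * ⁅a, c⁆ * b⁻¹) := by
    simp only [commutatorElement_def]; group
  rw [h1, Subgroup.mem_center_iff.mp h b, mul_inv_cancel_right]

open scoped IsMulCommutative in
/-- in a central extension of `SL₂(q)`, `q ≠ 4, 9`, the preimage of the upper unitriangular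
group is abelian -/
theorem comm_of_map_upperU [Fintype F] (h4 : Fintype.card F ≠ 4) (h9 : Fintype.card F ≠ 9)
    {Y : Type*} [Group Y] (τ : Y →* Matrix.SpecialLinearGroup (Fin 2) F)
    (hτ : Function.Surjective τ) (hc : τ.ker ≤ Subgroup.center Y) (y₁ y₂ : Y) (s₁ s₂ : F)
    (h₁ : τ y₁ = upperU s₁) (h₂ : τ y₂ = upperU s₂) : y₁ * y₂ = y₂ * y₁ := by
  classical
  choose u hu using fun s : F => hτ (upperU s)
  choose d hd using fun a : Fˣ => hτ (diagD a)
  have hlift : ∀ (y y' : Y) (s s' : F), τ y = upperU s → τ y' = upperU s' →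
      ⁅y, y'⁆ = ⁅u s, u s'⁆ := by
    intro y y' s s' hy hy'
    have hz : (u s)⁻¹ * y ∈ Subgroup.center Y := by
      apply hc
      rw [MonoidHom.mem_ker, map_mul, map_inv, hu, hy, inv_mul_cancel]
    have hz' : (u s')⁻¹ * y' ∈ Subgroup.center Y := by
      apply hc
      rw [MonoidHom.mem_ker, map_mul, map_inv, hu, hy', inv_mul_cancel]
    have e1 : y = u s * ((u s)⁻¹ * y) := by group
    have e2 : y' = u s' * ((u s')⁻¹ * y') := by group
    rw [e1, e2, comm_mul_central_left hz, comm_mul_central_right hz']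
  have hcen : ∀ s t, ⁅u s, u t⁆ ∈ Subgroup.center Y := by
    intro s t
    apply hc
    rw [MonoidHom.mem_ker, map_commutatorElement, hu, hu, commutatorElement_eq_one_iff_mul_comm,
      ← upperU_add', ← upperU_add', add_comm]
  let β : F → F → Additive (Subgroup.center Y) :=
    fun s t => Additive.ofMul ⟨⁅u s, u t⁆, hcen s t⟩
  have hβ : ∀ s t, β s t = 0 := by
    apply bilin_eq_zero_of_sq_invariant h4 h9 β
    · intro s s' t
      show Additive.ofMul (⟨⁅u (s + s'), u t⁆, hcen _ _⟩ : Subgroup.center Y) =
        Additive.ofMul ((⟨⁅u s, u t⁆, hcen _ _⟩ : Subgroup.center Y) * ⟨⁅u s', u t⁆, hcen _ _⟩)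
      congr 1
      apply Subtype.ext
      show ⁅u (s + s'), u t⁆ = ⁅u s, u t⁆ * ⁅u s', u t⁆
      rw [← comm_mul_left_of_central _ _ _ (hcen s' t)]
      exact (hlift (u s * u s') (u t) (s + s') t (by rw [map_mul, hu, hu, upperU_add']) (hu t)).symm
    · intro s t t'
      show Additive.ofMul (⟨⁅u s, u (t + t')⁆, hcen _ _⟩ : Subgroup.center Y) =
        Additive.ofMul ((⟨⁅u s, u t⁆, hcen _ _⟩ : Subgroup.center Y) * ⟨⁅u s, u t'⁆, hcen _ _⟩)
      congr 1
      apply Subtype.ext
      show ⁅u s, u (t + t')⁆ = ⁅u s, u t⁆ * ⁅u s, u t'⁆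
      rw [← comm_mul_right_of_central _ _ _ (hcen s t')]
      exact (hlift (u s) (u t * u t') s (t + t') (hu s) (by rw [map_mul, hu, hu, upperU_add'])).symm
    · intro s
      show Additive.ofMul (⟨⁅u s, u s⁆, hcen _ _⟩ : Subgroup.center Y) = Additive.ofMul 1
      congr 1
      apply Subtype.ext
      exact commutatorElement_self (u s)
    · intro a ha s t
      show Additive.ofMul (⟨⁅u (a * a * s), u (a * a * t)⁆, hcen _ _⟩ : Subgroup.center Y) =
        Additive.ofMul (⟨⁅u s, u t⁆, hcen _ _⟩ : Subgroup.center Y)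
      congr 1
      apply Subtype.ext
      show ⁅u (a * a * s), u (a * a * t)⁆ = ⁅u s, u t⁆
      let α : Fˣ := Units.mk0 a ha
      have hconj : ∀ r : F, τ (d α * u r * (d α)⁻¹) = upperU (a * a * r) := by
        intro r
        rw [map_mul, map_mul, map_inv, hd, hu, diagD_mul_upperU, mul_inv_cancel_right]
        rfl
      rw [← hlift _ _ _ _ (hconj s) (hconj t)]
      have e : ⁅d α * u s * (d α)⁻¹, d α * u t * (d α)⁻¹⁆ = d α * ⁅u s, u t⁆ * (d α)⁻¹ := by
        simp only [commutatorElement_def]; group
      rw [e, Subgroup.mem_center_iff.mp (hcen s t) (d α), mul_inv_cancel_right]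
  have h1 : ⁅u s₁, u s₂⁆ = 1 := by
    have := hβ s₁ s₂
    have h2 : (⟨⁅u s₁, u s₂⁆, hcen _ _⟩ : Subgroup.center Y) = 1 := this
    exact congrArg Subtype.val h2
  rw [← commutatorElement_eq_one_iff_mul_comm, hlift y₁ y₂ s₁ s₂ h₁ h₂, h1]

end UpperPart

end Cfsg.Agent.Lib.Helper35
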