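import Mathlib
import Cfsg.Prelude.Def_KGroupFacts
import Cfsg.Agent.Lib.Helper41.SL2TorusCyclic
import Cfsg.Agent.Lib.Helper5.PSL2
import Cfsg.Agent.Lib.Helper35.Schur
import Cfsg.Agent.Lib.Helper35.SL2Upper
import Cfsg.Agent.Lib.Helper35.SL2Dicyclic

set_option autoImplicit false

namespace Cfsg.Agent.Lib.Helper35

open scoped commutatorElement

section SL2Main

open Cfsg.Agent.Lib.Helper41

variable {F : Type*} [Field F] [Fintype F]

theorem index_of_card {G : Type*} [Group G] (K : Subgroup G) (k i : ℕ) (hk : 0 < k)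
    (hK : Nat.card K = k) (hG : Nat.card G = k * i) : K.index = i := by
  have h1 := Subgroup.card_mul_index K
  rw [hK, hG] at h1
  exact Nat.eq_of_mul_eq_mul_left hk h1

theorem trace_diagD (a : Fˣ) : (diagD a).1.trace = (a : F) + ((a⁻¹ : Fˣ) : F) := by
  rw [diagD_coe, Matrix.trace_fin_two]
  simp

/-- every finite stem extension of `SL₂(q)`, `q ≠ 4, 9`, is an isomorphism -/
theorem sl2_stem_ker_eq_bot (h4 : Fintype.card F ≠ 4) (h9 : Fintype.card F ≠ 9)
    {Y : Type*} [Group Y] (τ : Y →* Matrix.SpecialLinearGroup (Fin 2) F)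
    (hτ : IsStemExtension τ) : τ.ker = ⊥ := by
  classical
  rw [eq_bot_iff]
  intro z hzk
  rw [Subgroup.mem_bot]
  have hz : z ∈ Subgroup.center Y := hτ.2.1 hzk
  have hz' : z ∈ commutator Y := hτ.2.2 hzk
  have hzk' : τ z = 1 := hzk
  obtain ⟨q, hq⟩ : ∃ q, q = Fintype.card F := ⟨_, rfl⟩
  have hq2 : 2 ≤ q := by rw [hq]; exact Fintype.one_lt_card
  have hG : Nat.card (Matrix.SpecialLinearGroup (Fin 2) F) = q * (q ^ 2 - 1) := by
    rw [hq]; exact Cfsg.Agent.Lib.Helper5.card_SL2
  have hqq : q ^ 2 - 1 = (q - 1) * (q + 1) := by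
    obtain ⟨k, rfl⟩ : ∃ k, q = k + 1 := ⟨q - 1, by omega⟩
    have : (k + 1) ^ 2 = k * (k + 2) + 1 := by ring
    rw [this]; simp
  -- the unipotent part
  have hU : z ^ (q ^ 2 - 1) = 1 := by
    let uH : Multiplicative F →* Matrix.SpecialLinearGroup (Fin 2) F :=
      { toFun := fun s => upperU (Multiplicative.toAdd s)
        map_one' := by
          apply Subtype.ext
          rw [upperU_coe]
          ext i j
          fin_cases i <;> fin_cases j <;> simp
        map_mul' := fun s t => upperU_add' _ _ }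
    have hinj : Function.Injective uH := by
      intro s t hst
      have h1 : (upperU (Multiplicative.toAdd s)).1 0 1 = (upperU (Multiplicative.toAdd t)).1 0 1 := by
        have : upperU (Multiplicative.toAdd s) = upperU (Multiplicative.toAdd t) := hst
        rw [this]
      rw [upperU_coe, upperU_coe] at h1
      simpa using h1
    have hcard : Nat.card uH.range = q := by
      rw [← Nat.card_congr (MonoidHom.ofInjective hinj).toEquiv, Nat.card_eq_fintype_card,
        Fintype.card_multiplicative, hq]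
    rw [← index_of_card uH.range q (q ^ 2 - 1) (by omega) hcard hG]
    apply pow_index_eq_one_of_comm τ hτ.1 hz hz' hzk'
    rintro y₁ y₂ ⟨s₁, hs₁⟩ ⟨s₂, hs₂⟩
    exact comm_of_map_upperU h4 h9 τ hτ.1 hτ.2.1 y₁ y₂ _ _ hs₁.symm hs₂.symm
  have hn1 : orderOf z ∣ q ^ 2 - 1 := orderOf_dvd_of_pow_eq_one hU
  have hcop : Nat.Coprime (orderOf z) q := by
    have h1 : Nat.gcd (orderOf z) q ∣ q ^ 2 := dvd_trans (Nat.gcd_dvd_right _ _) (dvd_pow_self q two_ne_zero)
    have h2 : Nat.gcd (orderOf z) q ∣ q ^ 2 - 1 := dvd_trans (Nat.gcd_dvd_left _ _) hn1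
    have h3 : Nat.gcd (orderOf z) q ∣ q ^ 2 - (q ^ 2 - 1) := Nat.dvd_sub h1 h2
    have h4 : q ^ 2 - (q ^ 2 - 1) = 1 := by
      have : 1 ≤ q ^ 2 := Nat.one_le_pow _ _ (by omega)
      omega
    rw [h4] at h3
    exact Nat.dvd_one.mp h3
  -- a generator of the multiplicative group
  obtain ⟨a₀, ha₀⟩ := IsCyclic.exists_generator (α := Fˣ)
  have hoa : orderOf a₀ = q - 1 := by
    rw [orderOf_eq_card_of_forall_mem_zpowers ha₀, Nat.card_eq_fintype_card, Fintype.card_units, hq]
  have hod : orderOf (diagD a₀) = q - 1 := by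
    rw [← hoa]
    exact orderOf_injective diagHom diagHom_injective a₀
  suffices h : orderOf z = 1 from orderOf_eq_one_iff.mp h
  by_cases h2 : (2 : F) = 0
  · -- even characteristic
    have hqe : q % 2 = 0 := by rw [hq]; exact card_mod_two_of_two_eq_zero h2
    obtain ⟨p, hp⟩ := CharP.exists F
    have : Fact p.Prime := ⟨CharP.char_is_prime F p⟩
    obtain ⟨W, hW⟩ := exists_sl2_orderOf_card_add_one (F := F) p
    have hT : z ^ (q * (q + 1)) = 1 := by
      have hcard : Nat.card (Subgroup.zpowers (diagD a₀)) = q - 1 := by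
        rw [Nat.card_zpowers, hod]
      rw [← index_of_card (Subgroup.zpowers (diagD a₀)) (q - 1) (q * (q + 1)) (by omega) hcard
        (by rw [hG, hqq]; ring)]
      apply pow_index_eq_one_of_comm τ hτ.1 hz hz' hzk'
      intro y₁ y₂ h₁ h₂
      exact comm_of_map_mem_zpowers τ hτ.1 hτ.2.1 _ y₁ y₂ h₁ h₂
    have hW' : z ^ (q * (q - 1)) = 1 := by
      have hcard : Nat.card (Subgroup.zpowers W) = q + 1 := by
        rw [Nat.card_zpowers, hW, hq]
      rw [← index_of_card (Subgroup.zpowers W) (q + 1) (q * (q - 1)) (by omega) hcard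
        (by rw [hG, hqq]; ring)]
      apply pow_index_eq_one_of_comm τ hτ.1 hz hz' hzk'
      intro y₁ y₂ h₁ h₂
      exact comm_of_map_mem_zpowers τ hτ.1 hτ.2.1 _ y₁ y₂ h₁ h₂
    have hn2 : orderOf z ∣ q + 1 :=
      hcop.dvd_of_dvd_mul_left (orderOf_dvd_of_pow_eq_one hT)
    have hn3 : orderOf z ∣ q - 1 :=
      hcop.dvd_of_dvd_mul_left (orderOf_dvd_of_pow_eq_one hW')
    have hn4 : orderOf z ∣ 2 := by
      have := Nat.dvd_sub hn2 hn3
      have e : q + 1 - (q - 1) = 2 := by omega
      rwa [e] at this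
    rcases (Nat.dvd_prime Nat.prime_two).mp hn4 with h | h
    · exact h
    · exfalso
      rw [h] at hn2
      omega
  · -- odd characteristic
    have hqo : q % 2 = 1 := by rw [hq]; exact card_mod_two_of_two_ne_zero h2
    obtain ⟨m, hm⟩ : ∃ m, q = 2 * m + 1 := ⟨q / 2, by omega⟩
    have hm1 : 1 ≤ m := by omega
    have hG' : Nat.card (Matrix.SpecialLinearGroup (Fin 2) F) = q * (4 * m * (m + 1)) := by
      rw [hG, hqq, hm]
      have : 2 * m + 1 - 1 = 2 * m := by omega
      rw [this]; ring
    obtain ⟨W, hWo, hWno, hWc, -⟩ := exists_nonsplit_torus (F := F) h2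
    have hW4 : W.1.trace * W.1.trace ≠ 4 := trace_sq_ne_four_of_nonsplit hWno
    have hN1 : z ^ (q * m) = 1 := by
      have hcard : Nat.card (Subgroup.normalizer
          (Subgroup.centralizer ({W} : Set (Matrix.SpecialLinearGroup (Fin 2) F)) :
            Set (Matrix.SpecialLinearGroup (Fin 2) F))) = 4 * (m + 1) := by
        rw [card_normalizer_centralizer h2 W hW4, hWc, ← hq, hm]; ring
      rw [← index_of_card _ (4 * (m + 1)) (q * m) (by omega) hcard (by rw [hG']; ring)]
      apply pow_index_eq_one_of_comap τ hτ.1 hz hz' hzk'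
      intro w hw hw1
      exact eq_one_of_mem_commutator_normalizer h2 τ hτ.1 hτ.2.1 W hW4 w hw hw1
    have hnm : orderOf z ∣ m := hcop.dvd_of_dvd_mul_left (orderOf_dvd_of_pow_eq_one hN1)
    by_cases hm2 : m = 1
    · rw [hm2] at hnm
      exact Nat.dvd_one.mp hnm
    · have hm2' : 2 ≤ m := by omega
      -- the split torus normalizer
      have ha1 : (a₀ : F) * a₀ ≠ 1 := by
        intro h
        have h1 : a₀ ^ 2 = 1 := by
          apply Units.ext
          rw [Units.val_pow_eq_pow_val, pow_two, h]; rfl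
        have := orderOf_dvd_of_pow_eq_one h1
        rw [hoa] at this
        have := Nat.le_of_dvd (by norm_num) this
        omega
      have hne : (a₀ : F) ≠ 0 := a₀.ne_zero
      have hinv : ((a₀⁻¹ : Fˣ) : F) = (a₀ : F)⁻¹ := by simp
      have hx4 : (diagD a₀).1.trace * (diagD a₀).1.trace ≠ 4 := by
        rw [trace_diagD, hinv]
        intro h
        apply ha1
        have h1 : ((a₀ : F) * a₀ - 1) ^ 2 = 0 := by
          field_simp at h
          linear_combination h
        have h3 := pow_eq_zero_iff (two_ne_zero) |>.mp h1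
        exact sub_eq_zero.mp h3
      have hxc := not_mem_center_of_trace h2 (diagD a₀) hx4
      have hcardC : Nat.card (Subgroup.centralizer
          ({diagD a₀} : Set (Matrix.SpecialLinearGroup (Fin 2) F))) = q - 1 := by
        rcases card_centralizer_cases h2 (diagD a₀) hxc with h | h | h
        · exact absurd h.1 hx4
        · rw [h.2, hq]
        · exfalso
          apply h.1 (a₀ : F)
          rw [trace_diagD, hinv]
          field_simp
          ring
      have hN2 : z ^ (q * (m + 1)) = 1 := by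
        have hcard : Nat.card (Subgroup.normalizer
            (Subgroup.centralizer ({diagD a₀} : Set (Matrix.SpecialLinearGroup (Fin 2) F)) :
              Set (Matrix.SpecialLinearGroup (Fin 2) F))) = 4 * m := by
          rw [card_normalizer_centralizer h2 (diagD a₀) hx4, hcardC, hm]
          have : 2 * m + 1 - 1 = 2 * m := by omega
          rw [this]; ring
        rw [← index_of_card _ (4 * m) (q * (m + 1)) (by omega) hcard (by rw [hG']; ring)]
        apply pow_index_eq_one_of_comap τ hτ.1 hz hz' hzk'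
        intro w hw hw1
        exact eq_one_of_mem_commutator_normalizer h2 τ hτ.1 hτ.2.1 (diagD a₀) hx4 w hw hw1
      have hnm' : orderOf z ∣ m + 1 := hcop.dvd_of_dvd_mul_left (orderOf_dvd_of_pow_eq_one hN2)
      have := (Nat.dvd_add_right hnm).mp hnm'
      exact Nat.dvd_one.mp this

end SL2Main

end Cfsg.Agent.Lib.Helper35
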