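import Mathlib
import Cfsg.Agent.Lib.Helper35.SLBruhat
import Cfsg.Agent.Lib.Helper35.SchurPSL

set_option autoImplicit false

universe u

namespace Cfsg.Agent.Lib.Helper35.SLn

open scoped commutatorElement
open Matrix Cfsg Cfsg.Agent.Lib.Helper35

/-- in a stem extension of `SL`, Steinberg data generate the whole group -/
theorem closure_X_eq_top {ι : Type*} [Fintype ι] [DecidableEq ι] [Nontrivial ι] {F : Type*}
    [Field F] {E : Type*} [Group E] {τ : E →* Matrix.SpecialLinearGroup ι F} {X : ι → ι → F → E}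
    (hX : IsStein τ X) (hτ : IsStemExtension τ) :
    Subgroup.closure {x | ∃ (i j : ι) (t : F), i ≠ j ∧ x = X i j t} = ⊤ := by
  set G₀ := Subgroup.closure {x | ∃ (i j : ι) (t : F), i ≠ j ∧ x = X i j t} with hG₀
  have hmap : G₀.map τ = ⊤ := by
    apply Cfsg.Agent.Lib.Helper5.eq_top_of_transvection_mem
    intro i j hij c
    refine ⟨X i j c, Subgroup.subset_closure ⟨i, j, c, hij, rfl⟩, ?_⟩
    rw [hX.map i j c hij, ee_of_ne hij]
  have hdec : ∀ e : E, ∃ g ∈ G₀, τ g = τ e := by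
    intro e
    have : τ e ∈ G₀.map τ := by rw [hmap]; trivial
    obtain ⟨g, hg, hge⟩ := this
    exact ⟨g, hg, hge⟩
  have hcomm : commutator E ≤ G₀ := by
    rw [commutator_def, Subgroup.commutator_le]
    intro a _ b _
    obtain ⟨g, hg, hga⟩ := hdec a
    obtain ⟨g', hg', hgb⟩ := hdec b
    rw [comm_congr τ hτ.2.1 hga.symm hgb.symm, commutatorElement_def]
    exact G₀.mul_mem (G₀.mul_mem (G₀.mul_mem hg hg') (G₀.inv_mem hg)) (G₀.inv_mem hg')
  rw [eq_top_iff]
  intro e _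
  obtain ⟨g, hg, hge⟩ := hdec e
  have hz : g⁻¹ * e ∈ τ.ker := by
    rw [MonoidHom.mem_ker, map_mul, map_inv, hge, inv_mul_cancel]
  have : e = g * (g⁻¹ * e) := by group
  rw [this]
  exact G₀.mul_mem hg (hcomm (hτ.2.2 hz))

theorem exists_unit_pow_ne_one {F : Type*} [Field F] [Fintype F] (k : ℕ)
    (hk : ¬ (Fintype.card F - 1) ∣ k) : ∃ a : Fˣ, a ^ k ≠ 1 := by
  obtain ⟨g, hg⟩ := IsCyclic.exists_ofOrder_eq_natCard (α := Fˣ)
  refine ⟨g, fun h => hk ?_⟩
  have h1 : Nat.card Fˣ = Fintype.card F - 1 := by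
    rw [Nat.card_units, Nat.card_eq_fintype_card]
  rw [← h1, ← hg]
  exact orderOf_dvd_of_pow_eq_one h

/-- every finite stem extension of `SL_n(q)`, `n ≥ 3`, `(n, q) ≠ (3, 2), (3, 4), (4, 2)`, is an
isomorphism -/
theorem sln_stem_ker_eq_bot {F : Type*} [Field F] [Fintype F] {n : ℕ} (hn : 3 ≤ n)
    (h3 : n = 3 → Fintype.card F ≠ 2 ∧ Fintype.card F ≠ 4)
    (h4 : n = 4 → Fintype.card F ≠ 2)
    {Y : Type*} [Group Y] (τ : Y →* Matrix.SpecialLinearGroup (Fin n) F)
    (hτ : IsStemExtension τ) : τ.ker = ⊥ := by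
  obtain ⟨m, rfl⟩ : ∃ m, n = m + 1 := ⟨n - 1, by omega⟩
  have hq : 2 ≤ Fintype.card F := Fintype.one_lt_card
  have hn' : 3 ≤ Fintype.card (Fin (m + 1)) := by rw [Fintype.card_fin]; exact hn
  have h3' : Fintype.card (Fin (m + 1)) = 3 → ∃ a : Fˣ, a ^ 3 ≠ 1 := by
    intro hc
    rw [Fintype.card_fin] at hc
    obtain ⟨hc2, hc4⟩ := h3 hc
    apply exists_unit_pow_ne_one
    intro hd
    have h1 := Nat.le_of_dvd (by norm_num) hd
    have h2 : Fintype.card F - 1 ≠ 2 := by
      intro h2'; rw [h2'] at hd; norm_num at hd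
    omega
  have h4' : Fintype.card (Fin (m + 1)) = 4 →
      (∃ a : Fˣ, a ^ 2 ≠ 1) ∨ Fintype.card F = 3 := by
    intro hc
    rw [Fintype.card_fin] at hc
    have hc2 := h4 hc
    by_cases hq3 : Fintype.card F = 3
    · exact Or.inr hq3
    · left
      apply exists_unit_pow_ne_one
      intro hd
      have h1 := Nat.le_of_dvd (by norm_num) hd
      omega
  obtain ⟨X, hX⟩ := exists_isStein τ hτ.1 hτ.2.1 hn' h3' h4'
  have : Nontrivial (Fin (m + 1)) := Fin.nontrivial_iff_two_le.2 (by omega)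
  exact ker_eq_bot_of_isStein hX hτ.2.1 (by omega) (closure_X_eq_top hX hτ)

/-- `SL_n(q)`, `n ≥ 3`, `(n, q) ≠ (3, 2), (3, 4), (4, 2)`, has trivial Schur multiplier -/
theorem hasCyclicSchurMultiplier_sln_one {F : Type u} [Field F] [Fintype F] {n : ℕ} (hn : 3 ≤ n)
    (h3 : n = 3 → Fintype.card F ≠ 2 ∧ Fintype.card F ≠ 4)
    (h4 : n = 4 → Fintype.card F ≠ 2) :
    HasCyclicSchurMultiplier (Matrix.SpecialLinearGroup (Fin n) F) 1 :=
  hasCyclicSchurMultiplier_one_of (fun _ _ _ τ hτ => sln_stem_ker_eq_bot hn h3 h4 τ hτ)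

theorem card_rootsOfUnity_finite_field {F : Type*} [Field F] [Fintype F] (n : ℕ) :
    Nat.card (rootsOfUnity n F) = Nat.gcd n (Fintype.card F - 1) := by
  rw [rootsOfUnity_eq_ker, IsCyclic.card_powMonoidHom_ker, Nat.card_units,
    Nat.card_eq_fintype_card, Nat.gcd_comm]

/-- if `SL_n(q)` is perfect with trivial multiplier then `PSL_n(q)` has cyclic multiplier of
order `gcd(n, q - 1)` -/
theorem hasCyclicSchurMultiplier_psl_of {F : Type u} [Field F] [Fintype F] {n : ℕ} (hn : 0 < n)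
    (hperf : commutator (Matrix.SpecialLinearGroup (Fin n) F) = ⊤)
    (hΓ : HasCyclicSchurMultiplier (Matrix.SpecialLinearGroup (Fin n) F) 1) :
    HasCyclicSchurMultiplier (Matrix.ProjectiveSpecialLinearGroup (Fin n) F)
      (Nat.gcd n (Fintype.card F - 1)) := by
  let σ : Matrix.SpecialLinearGroup (Fin n) F →* Matrix.ProjectiveSpecialLinearGroup (Fin n) F :=
    QuotientGroup.mk' (Subgroup.center (Matrix.SpecialLinearGroup (Fin n) F))
  have hker : σ.ker = Subgroup.center (Matrix.SpecialLinearGroup (Fin n) F) :=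
    QuotientGroup.ker_mk' _
  have hσ : IsStemExtension σ := by
    refine ⟨QuotientGroup.mk'_surjective _, by rw [hker], ?_⟩
    rw [hperf]
    exact le_top
  have e1 : σ.ker ≃* Subgroup.center (Matrix.SpecialLinearGroup (Fin n) F) :=
    MulEquiv.subgroupCongr hker
  have e2 : Subgroup.center (Matrix.SpecialLinearGroup (Fin n) F) ≃* rootsOfUnity n F := by
    have e := Matrix.SpecialLinearGroup.center_equiv_rootsOfUnity' (n := Fin n) (R := F) ⟨0, hn⟩
    rwa [Fintype.card_fin] at e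
  have hg : 0 < Nat.gcd n (Fintype.card F - 1) := Nat.gcd_pos_of_pos_left _ hn
  have : NeZero (Nat.gcd n (Fintype.card F - 1)) := ⟨hg.ne'⟩
  have hcard : Nat.card (rootsOfUnity n F) =
      Nat.card (Multiplicative (ZMod (Nat.gcd n (Fintype.card F - 1)))) := by
    rw [card_rootsOfUnity_finite_field, Nat.card_eq_fintype_card, Fintype.card_multiplicative,
      ZMod.card]
  have : NeZero n := ⟨hn.ne'⟩
  have e3 : rootsOfUnity n F ≃* Multiplicative (ZMod (Nat.gcd n (Fintype.card F - 1))) :=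
    mulEquivOfCyclicCardEq hcard
  exact hasSchurMultiplier_of_stem_of_trivial σ hσ hΓ (e1.trans (e2.trans e3))

end Cfsg.Agent.Lib.Helper35.SLn
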