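import Mathlib
import Cfsg.Agent.Lib.Helper35.SchurLocal2

set_option autoImplicit false

/-! # Auxiliary lemmas for simplicity proofs by Sylow conjugacy and normal closures -/

namespace Cfsg.Agent.Lib.Helper35

open scoped commutatorElement Pointwise

section SimpleAux

variable {G : Type*} [Group G]

/-- an element of prime order is conjugate into any given Sylow subgroup (given as a
`p`-subgroup of index prime to `p`) -/
theorem exists_conj_mem_of_orderOf_prime [Finite G] {p : ℕ} [Fact p.Prime] (P : Subgroup G)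
    (hP : IsPGroup p P) (hidx : ¬ p ∣ P.index) {x : G} (hx : orderOf x = p) :
    ∃ g : G, g * x * g⁻¹ ∈ P := by
  have hpg : IsPGroup p (Subgroup.zpowers x) := by
    apply IsPGroup.of_card (n := 1)
    rw [Nat.card_zpowers, hx, pow_one]
  obtain ⟨Q, hQ⟩ := hpg.exists_le_sylow
  obtain ⟨g, hg⟩ := MulAction.exists_smul_eq G Q (hP.toSylow hidx)
  refine ⟨g, ?_⟩
  have h1 : x ∈ (Q : Subgroup G) := hQ (Subgroup.mem_zpowers x)
  have h2 : MulAut.conj g • x ∈ MulAut.conj g • (Q : Subgroup G) :=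
    Subgroup.smul_mem_pointwise_smul _ _ _ h1
  rw [← Sylow.coe_subgroup_smul, hg, IsPGroup.toSylow_coe] at h2
  simpa [MulAut.smul_def] using h2

/-- if `q² ∤ |G|`, a normal subgroup containing an element of order `q` contains every element
of order `q` -/
theorem mem_normal_of_orderOf_prime [Finite G] (N : Subgroup G) [hN : N.Normal] {q : ℕ}
    [Fact q.Prime] (hq : ¬ q ^ 2 ∣ Nat.card G) {x s : G} (hx : x ∈ N) (hxo : orderOf x = q)
    (hso : orderOf s = q) : s ∈ N := by
  have hidx : ¬ q ∣ (Subgroup.zpowers s).index := by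
    intro hdvd
    apply hq
    have h := Subgroup.card_mul_index (Subgroup.zpowers s)
    rw [Nat.card_zpowers, hso] at h
    rw [← h, pow_two]
    exact Nat.mul_dvd_mul_left q hdvd
  have hpg : IsPGroup q (Subgroup.zpowers s) := by
    apply IsPGroup.of_card (n := 1)
    rw [Nat.card_zpowers, hso, pow_one]
  obtain ⟨g, hg⟩ := exists_conj_mem_of_orderOf_prime (Subgroup.zpowers s) hpg hidx hxo
  have ho : orderOf (g * x * g⁻¹) = q := by
    have hsc : SemiconjBy g x (g * x * g⁻¹) := by unfold SemiconjBy; group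
    rw [← hsc.orderOf_eq, hxo]
  have hle : Subgroup.zpowers (g * x * g⁻¹) ≤ Subgroup.zpowers s :=
    Subgroup.zpowers_le.mpr hg
  have hEq : Subgroup.zpowers (g * x * g⁻¹) = Subgroup.zpowers s :=
    Subgroup.eq_of_le_of_card_ge hle (by rw [Nat.card_zpowers, Nat.card_zpowers, ho, hso])
  have hs : s ∈ Subgroup.zpowers (g * x * g⁻¹) := by rw [hEq]; exact Subgroup.mem_zpowers s
  exact (Subgroup.zpowers_le.mpr (hN.conj_mem x hx g)) hs

/-- `x ≡ yᵏ` modulo a normal subgroup implies `⁅x, y⁆ ∈ N` -/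
theorem comm_mem_of_eq_zpow_mul (N : Subgroup G) [hN : N.Normal] {x y n : G} (hn : n ∈ N)
    (k : ℤ) (h : x = y ^ k * n) : ⁅x, y⁆ ∈ N := by
  have e : ⁅y ^ k * n, y⁆ = y ^ k * (n * (y * n⁻¹ * y⁻¹)) * (y ^ k)⁻¹ := by
    simp only [commutatorElement_def]; group
  rw [h, e]
  exact hN.conj_mem _ (N.mul_mem hn (hN.conj_mem _ (N.inv_mem hn) y)) _

/-- `y ≡ xᵏ` modulo a normal subgroup implies `⁅x, y⁆ ∈ N` -/
theorem comm_mem_of_eq_mul_zpow (N : Subgroup G) [hN : N.Normal] {x y n : G} (hn : n ∈ N)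
    (k : ℤ) (h : y = n * x ^ k) : ⁅x, y⁆ ∈ N := by
  have e : ⁅x, n * x ^ k⁆ = (x * n * x⁻¹) * n⁻¹ := by
    simp only [commutatorElement_def]; group
  rw [h, e]
  exact N.mul_mem (hN.conj_mem _ hn x) (N.inv_mem hn)

/-- a normal subgroup containing the commutator of two generators of a perfect group is the
whole group -/
theorem eq_top_of_comm_mem_of_perfect (N : Subgroup G) [hN : N.Normal] {x y : G}
    (hgen : Subgroup.closure ({x, y} : Set G) = ⊤) (hperf : commutator G = ⊤)
    (hxy : ⁅x, y⁆ ∈ N) : N = ⊤ := by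
  rw [eq_top_iff, ← hperf]
  apply commutator_le_of_generators N ({x, y} : Set G) hgen
  intro a ha b hb
  rcases ha with ha | ha <;> rcases hb with hb | hb
  · rw [ha, hb, commutatorElement_self]; exact N.one_mem
  · rw [ha, Set.mem_singleton_iff.mp hb]; exact hxy
  · rw [Set.mem_singleton_iff.mp ha, hb, ← commutatorElement_inv]; exact N.inv_mem hxy
  · rw [Set.mem_singleton_iff.mp ha, Set.mem_singleton_iff.mp hb, commutatorElement_self]
    exact N.one_mem

/-- elements of the closure of three pairwise commuting elements -/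
theorem exists_zpow_of_mem_closure_triple {a b c : G} (hab : a * b = b * a) (hac : a * c = c * a)
    (hbc : b * c = c * b) : ∀ x ∈ Subgroup.closure ({a, b, c} : Set G),
    ∃ i j k : ℤ, x = a ^ i * b ^ j * c ^ k := by
  have cab : Commute a b := hab
  have cac : Commute a c := hac
  have cbc : Commute b c := hbc
  intro x hx
  induction hx using Subgroup.closure_induction with
  | mem x hx =>
    rcases hx with h | h | h
    · exact ⟨1, 0, 0, by simp [h]⟩
    · exact ⟨0, 1, 0, by simp [h]⟩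
    · exact ⟨0, 0, 1, by simp [Set.mem_singleton_iff.mp h]⟩
  | one => exact ⟨0, 0, 0, by simp⟩
  | mul x y _ _ ihx ihy =>
    obtain ⟨i, j, k, rfl⟩ := ihx
    obtain ⟨i', j', k', rfl⟩ := ihy
    refine ⟨i + i', j + j', k + k', ?_⟩
    have h1 : c ^ k * a ^ i' = a ^ i' * c ^ k := ((cac.zpow_zpow i' k).eq).symm
    have h2 : b ^ j * a ^ i' = a ^ i' * b ^ j := ((cab.zpow_zpow i' j).eq).symm
    have h3 : c ^ k * b ^ j' = b ^ j' * c ^ k := ((cbc.zpow_zpow j' k).eq).symm
    calc a ^ i * b ^ j * c ^ k * (a ^ i' * b ^ j' * c ^ k')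
        = a ^ i * b ^ j * (c ^ k * a ^ i') * b ^ j' * c ^ k' := by group
      _ = a ^ i * (b ^ j * a ^ i') * (c ^ k * b ^ j') * c ^ k' := by rw [h1]; group
      _ = a ^ i * (a ^ i' * b ^ j) * (b ^ j' * c ^ k) * c ^ k' := by rw [h2, h3]
      _ = a ^ (i + i') * b ^ (j + j') * c ^ (k + k') := by
        rw [zpow_add, zpow_add, zpow_add]; group
  | inv x _ ihx =>
    obtain ⟨i, j, k, rfl⟩ := ihx
    refine ⟨-i, -j, -k, ?_⟩
    have h1 : c ^ (-k) * b ^ (-j) = b ^ (-j) * c ^ (-k) := ((cbc.zpow_zpow (-j) (-k)).eq).symm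
    have h2 : c ^ (-k) * a ^ (-i) = a ^ (-i) * c ^ (-k) := ((cac.zpow_zpow (-i) (-k)).eq).symm
    have h3 : b ^ (-j) * a ^ (-i) = a ^ (-i) * b ^ (-j) := ((cab.zpow_zpow (-i) (-j)).eq).symm
    calc (a ^ i * b ^ j * c ^ k)⁻¹ = c ^ (-k) * b ^ (-j) * a ^ (-i) := by group
      _ = b ^ (-j) * (c ^ (-k) * a ^ (-i)) := by rw [h1]; group
      _ = (b ^ (-j) * a ^ (-i)) * c ^ (-k) := by rw [h2]; group
      _ = a ^ (-i) * b ^ (-j) * c ^ (-k) := by rw [h3]

/-- in a Frobenius group `2³ : 7`, a normal subgroup of the ambient group meeting `⟨a, b, c⟩`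
nontrivially contains `a` -/
theorem c2cube_mem_normal (N : Subgroup G) [hN : N.Normal] {a b c t : G} (ha2 : a * a = 1)
    (hta : t * a = b * t) (htb : t * b = c * t) (htc : t * c = a * b * t) (hab : a * b = b * a)
    (hac : a * c = c * a) {y : G} (hy : y ∈ Subgroup.closure ({a, b, c} : Set G)) (hy1 : y ≠ 1)
    (hyN : y ∈ N) : a ∈ N := by
  obtain ⟨e1, e2, e3, hb2, hc2, hbc, e5, e6, e7⟩ := c2cube_basic ha2 hta htb htc hab
  have hψ : ∀ u ∈ N, t⁻¹ * u * t ∈ N := by
    intro u hu
    have h := hN.conj_mem u hu t⁻¹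
    rwa [inv_inv] at h
  have hb : b ∈ N → a ∈ N := fun h => by
    have h' := hψ b h
    rwa [e6] at h'
  have hc : c ∈ N → a ∈ N := fun h => hb (by
    have h' := hψ c h
    rwa [e7] at h')
  have hab' : a * b ∈ N → a ∈ N := fun h => hc (by
    have h' := hψ (a * b) h
    have e : t⁻¹ * (a * b) * t = c := by rw [← e3]; group
    rwa [e] at h')
  have hbc' : b * c ∈ N → a ∈ N := fun h => hab' (by
    have h' := hψ (b * c) h
    have e : t⁻¹ * (b * c) * t = a * b := by
      calc t⁻¹ * (b * c) * t = (t⁻¹ * b * t) * (t⁻¹ * c * t) := by group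
        _ = a * b := by rw [e6, e7]
    rwa [e] at h')
  have habc : a * b * c ∈ N → a ∈ N := fun h => hbc' (by
    have h' := hψ (a * b * c) h
    have e : t⁻¹ * (a * b * c) * t = b * c := by
      calc t⁻¹ * (a * b * c) * t = (t⁻¹ * a * t) * (t⁻¹ * b * t) * (t⁻¹ * c * t) := by group
        _ = c * a * a * b := by rw [e5, e6, e7]
        _ = c * b := by rw [mul_assoc c a a, ha2, mul_one]
        _ = b * c := hbc.symm
    rwa [e] at h')
  have hac' : a * c ∈ N → a ∈ N := fun h => habc (by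
    have h' := hψ (a * c) h
    have e : t⁻¹ * (a * c) * t = a * b * c := by
      calc t⁻¹ * (a * c) * t = (t⁻¹ * a * t) * (t⁻¹ * c * t) := by group
        _ = c * a * b := by rw [e5, e7]
        _ = a * c * b := by rw [hac]
        _ = a * b * c := by rw [mul_assoc, ← hbc, ← mul_assoc]
    rwa [e] at h')
  obtain ⟨i, j, k, hijk⟩ := exists_zpow_of_mem_closure_triple hab hac hbc y hy
  rw [hijk] at hyN hy1
  rcases zpow_eq_one_or_self ha2 i with h1 | h1 <;>
    rcases zpow_eq_one_or_self hb2 j with h2 | h2 <;>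
      rcases zpow_eq_one_or_self hc2 k with h3 | h3 <;>
        rw [h1, h2, h3] at hyN hy1
  · exact absurd (by simp) hy1
  · exact hc (by simpa using hyN)
  · exact hb (by simpa using hyN)
  · exact hbc' (by simpa using hyN)
  · simpa using hyN
  · exact hac' (by simpa using hyN)
  · exact hab' (by simpa using hyN)
  · exact habc hyN

end SimpleAux

end Cfsg.Agent.Lib.Helper35
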